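import Groth.Agent.EGA43.K125.PolyUnibranch
import Mathlib.AlgebraicGeometry.AffineSpace

/-!
# Affine space over a geometrically unibranch point
-/

set_option autoImplicit false
universe u v

open CategoryTheory AlgebraicGeometry Limits

namespace K125.PolyUnibranchSch

open K125.PolyUnibranch

theorem nonempty_stalk_ringEquiv {X : Scheme.{u}} (A : Type u) [CommRing A]
    (j : Spec (CommRingCat.of A) ⟶ X) [IsOpenImmersion j] (p : PrimeSpectrum A) :
    Nonempty (X.presheaf.stalk (j p) ≃+* Localization.AtPrime p.asIdeal) := by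
  have : IsIso (j.stalkMap p) := IsOpenImmersion.instIsIsoCommRingCatStalkMap j p
  exact ⟨(asIso (j.stalkMap p)).commRingCatIsoToRingEquiv.trans
    (Spec.stalkIso (CommRingCat.of A) p).commRingCatIsoToRingEquiv⟩

theorem isGeomUnibranch_stalk_iff {X : Scheme.{u}} (A : Type u) [CommRing A]
    (j : Spec (CommRingCat.of A) ⟶ X) [IsOpenImmersion j] (p : PrimeSpectrum A) :
    CAlg2.IsGeomUnibranch (X.presheaf.stalk (j p)) ↔
      CAlg2.IsGeomUnibranch (Localization.AtPrime p.asIdeal) := by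
  obtain ⟨e⟩ := nonempty_stalk_ringEquiv A j p
  exact ⟨Groth.Agent.Flat2G.EtUnibranch.isGeomUnibranch_of_ringEquiv e,
    Groth.Agent.Flat2G.EtUnibranch.isGeomUnibranch_of_ringEquiv e.symm⟩

/-- If `Y` is geometrically unibranch at the image of `y'`, then `𝔸(σ; Y)` is geometrically
unibranch at `y'`. -/
theorem isGeomUnibranch_affineSpace {Y : Scheme.{u}} (σ : Type u) [Finite σ] (y' : ↥𝔸(σ; Y))
    (hy : CAlg2.IsGeomUnibranch (Y.presheaf.stalk ((𝔸(σ; Y) ↘ Y) y'))) :
    CAlg2.IsGeomUnibranch ((𝔸(σ; Y)).presheaf.stalk y') := by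
  obtain ⟨_, ⟨V, hV', rfl⟩, hyV, -⟩ := Y.isBasis_affineOpens.exists_subset_of_mem_open
    (Set.mem_univ ((𝔸(σ; Y) ↘ Y) y')) isOpen_univ
  have hV : IsAffineOpen V := hV'
  have hpb := AffineSpace.isPullback_map (n := σ) hV.fromSpec
  have hoi : IsOpenImmersion (AffineSpace.map σ hV.fromSpec) :=
    MorphismProperty.of_isPullback hpb.flip (inferInstance : IsOpenImmersion hV.fromSpec)
  have hyr : (𝔸(σ; Y) ↘ Y) y' ∈ Set.range hV.fromSpec := by
    rw [hV.range_fromSpec]
    exact hyV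
  obtain ⟨y₀, hy₀⟩ := hyr
  obtain ⟨z, hz1, hz2⟩ := Scheme.exists_preimage_of_isPullback hpb y' y₀ hy₀.symm
  let e := AffineSpace.SpecIso σ Γ(Y, V)
  let j := e.inv ≫ AffineSpace.map σ hV.fromSpec
  have hj : IsOpenImmersion j := inferInstance
  let Q : PrimeSpectrum (MvPolynomial σ Γ(Y, V)) := e.hom z
  have hQ : j Q = y' := by
    have h1 : e.inv (e.hom z) = z := by
      rw [← Scheme.Hom.comp_apply, e.hom_inv_id]
      rfl
    rw [← hz1]
    change AffineSpace.map σ hV.fromSpec (e.inv (e.hom z)) = _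
    rw [h1]
  have hQ2 : PrimeSpectrum.comap (algebraMap Γ(Y, V) (MvPolynomial σ Γ(Y, V))) Q = y₀ := by
    have h1 := congr($(AffineSpace.SpecIso_inv_over (n := σ) Γ(Y, V)) Q)
    have h2 : e.inv (e.hom z) = z := by
      rw [← Scheme.Hom.comp_apply, e.hom_inv_id]
      rfl
    refine h1.symm.trans ?_
    change (𝔸(σ; Spec Γ(Y, V)) ↘ Spec Γ(Y, V)) (e.inv (e.hom z)) = y₀
    rw [h2]
    exact hz2
  rw [← hQ]
  rw [isGeomUnibranch_stalk_iff (MvPolynomial σ Γ(Y, V)) j Q]
  rw [← hy₀] at hy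
  replace hy := (isGeomUnibranch_stalk_iff Γ(Y, V) hV.fromSpec y₀).mp hy
  have hp : y₀.asIdeal.IsPrime := y₀.2
  refine isGeomUnibranch_mvPolynomial Γ(Y, V) y₀.asIdeal hy σ Q.asIdeal ?_
  exact congrArg PrimeSpectrum.asIdeal hQ2

end K125.PolyUnibranchSch
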