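import Groth.Agent.EGA43.K125.PolyUnibranch

/-!
# `A[T_1, …, T_n]` with variables indexed by `Fin n`
-/

set_option autoImplicit false
universe u v

namespace K125.PolyUnibranchFin

open K125.PolyUnibranch

theorem isGeomUnibranch_mvPolynomial_fin (A : Type u) [CommRing A] (p : Ideal A) [p.IsPrime]
    (h : CAlg2.IsGeomUnibranch (Localization.AtPrime p)) (n : ℕ)
    (Q : Ideal (MvPolynomial (Fin n) A)) [Q.IsPrime]
    (hQ : Q.comap (algebraMap A (MvPolynomial (Fin n) A)) = p) :
    CAlg2.IsGeomUnibranch (Localization.AtPrime Q) := by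
  let e : MvPolynomial (ULift.{u} (Fin n)) A ≃ₐ[A] MvPolynomial (Fin n) A :=
    MvPolynomial.renameEquiv A Equiv.ulift
  let q : Ideal (MvPolynomial (ULift.{u} (Fin n)) A) := Q.comap e
  have hq : q.comap (algebraMap A (MvPolynomial (ULift.{u} (Fin n)) A)) = p := by
    rw [← hQ]
    change (Q.comap (e : MvPolynomial (ULift.{u} (Fin n)) A →+* MvPolynomial (Fin n) A)).comap _ = _
    rw [Ideal.comap_comap]
    congr 1
    ext a
    exact congrArg _ (e.commutes a)
  have key := isGeomUnibranch_mvPolynomial A p h (ULift.{u} (Fin n)) q hq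
  exact Groth.Agent.Flat2G.EtUnibranch.isGeomUnibranch_of_ringEquiv
    (Localization.localRingEquiv (I := q) Q e.toRingEquiv rfl) key

end K125.PolyUnibranchFin
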