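import Groth.Agent.EGA43.K125.UnivOpenQF
import Groth.Agent.EGA43.K125.PolyUnibranchFin
import Groth.Agent.Ega43.QSUnivOpen
import Groth.Agent.Old.H32.ChevPoint

/-!
# Chevalley's criterion at a point over a geometrically unibranch point
-/

set_option autoImplicit false
universe u v

open CategoryTheory AlgebraicGeometry Limits Topology TopologicalSpace

namespace K125.ChevPt

open Groth.Agent EGA43 Groth.Agent.Ega43

theorem irreducibleSpace_of_denseRange {α β : Type*} [TopologicalSpace α] [TopologicalSpace β]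
    [IrreducibleSpace α] {f : α → β} (hc : Continuous f) (hd : DenseRange f) :
    IrreducibleSpace β := by
  have h1 : IsIrreducible (Set.range f) := by
    rw [← Set.image_univ]
    exact (IrreducibleSpace.isIrreducible_univ α).image f hc.continuousOn
  have h2 : IsIrreducible (closure (Set.range f)) := h1.closure
  rw [hd.closure_range] at h2
  exact irreducibleSpace_def β |>.mpr h2

/-- The affine form. -/
theorem isUnivOpenAt_affine {A C : Type u} [CommRing A] [CommRing C] [Algebra A C]
    [Algebra.FiniteType A C] [IsNoetherianRing A] [hA : (nilradical A).IsPrime]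
    (hC : IrreducibleSpace (PrimeSpectrum C)) (q : PrimeSpectrum C)
    (hu : CAlg2.IsGeomUnibranch (Localization.AtPrime (q.asIdeal.under A)))
    (d : ℕ) (hd : ringKrullDim ((q.asIdeal.under A).Fiber C) ≤ d)
    (hgen : ∀ g : C, g ∉ q.asIdeal → (d : WithBot ℕ∞) ≤
      ringKrullDim ((nilradical A).Fiber (Localization.Away g))) :
    IsUnivOpenAt (Spec.map (CommRingCat.ofHom (algebraMap A C))) q := by
  obtain ⟨φ, g, hg, hqf⟩ := FibreDimAlg.exists_quasiFinite_mvPolynomial q.asIdeal d hd
  let T : Type u := MvPolynomial (Fin d) A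
  let S : Type u := Localization.Away g
  let : Algebra T S := ((algebraMap C S).comp φ.toRingHom).toAlgebra
  have hcomp : (algebraMap T S).comp (algebraMap A T) = algebraMap A S := by
    change ((algebraMap C (Localization.Away g)).comp φ.toRingHom).comp MvPolynomial.C = _
    rw [RingHom.comp_assoc, IsScalarTower.algebraMap_eq A C (Localization.Away g)]
    congr 1
    exact φ.comp_algebraMap
  have : IsScalarTower A T S := .of_algebraMap_eq' hcomp.symm
  have : Algebra.QuasiFinite T S := hqf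
  have : Algebra.FiniteType C S := inferInstance
  have : Algebra.FiniteType A S := .trans (inferInstanceAs (Algebra.FiniteType A C)) this
  have : Algebra.FiniteType T S := .of_restrictScalars_finiteType A _ _
  obtain ⟨qS, hqS⟩ := (PrimeSpectrum.localization_away_comap_range S g).ge
      (show q ∈ PrimeSpectrum.basicOpen g from hg)
  have : Nonempty (PrimeSpectrum S) := ⟨qS⟩
  have hSi : IrreducibleSpace (PrimeSpectrum S) :=
    (PrimeSpectrum.localization_away_isOpenEmbedding S g).irreducibleSpace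
  have hker := FibreDimAlg.ker_le_nilradical_of_quasiFinite (A := A) (S := S)
    (nilradical A) le_rfl d (hgen g hg)
  let h : Spec (CommRingCat.of S) ⟶ Spec (CommRingCat.of T) :=
    Spec.map (CommRingCat.ofHom (algebraMap T S))
  have hTN : IsNoetherianRing T := inferInstanceAs (IsNoetherianRing (MvPolynomial (Fin d) A))
  have hfp : Algebra.FinitePresentation T S := Algebra.FinitePresentation.of_finiteType.mp inferInstance
  have h1 : LocallyOfFinitePresentation h :=
    (HasRingHomProperty.Spec_iff (P := @LocallyOfFinitePresentation)).mpr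
      (RingHom.finitePresentation_algebraMap.mpr hfp)
  have h2 : LocallyQuasiFinite h :=
    (HasRingHomProperty.Spec_iff (P := @LocallyQuasiFinite)).mpr hqf
  have h3 : DenseRange (PrimeSpectrum.comap (algebraMap T S)) :=
    (PrimeSpectrum.denseRange_comap_iff_ker_le_nilRadical _).mpr hker
  have h4 : IsDominant h := ⟨h3⟩
  have h5 : IrreducibleSpace (Spec (CommRingCat.of S)) := hSi
  have h6 : IrreducibleSpace (Spec (CommRingCat.of T)) :=
    irreducibleSpace_of_denseRange (f := PrimeSpectrum.comap (algebraMap T S))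
      (PrimeSpectrum.continuous_comap _) h3
  have h7 : CAlg2.IsGeomUnibranch ((Spec (CommRingCat.of T)).presheaf.stalk (h qS)) := by
    have := K125.PolyUnibranchSch.isGeomUnibranch_stalk_iff T (𝟙 (Spec (CommRingCat.of T)))
      (PrimeSpectrum.comap (algebraMap T S) qS)
    refine this.mpr ?_
    apply K125.PolyUnibranchFin.isGeomUnibranch_mvPolynomial_fin A (q.asIdeal.under A) hu d
    rw [← hqS]
    change (qS.asIdeal.comap (algebraMap T S)).comap (algebraMap A T) =
      (qS.asIdeal.comap (algebraMap C S)).comap (algebraMap A C)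
    rw [Ideal.comap_comap, Ideal.comap_comap, hcomp, ← IsScalarTower.algebraMap_eq]
  have h8 : IsUnivOpenAt h qS := K125.UnivOpenQF.isUnivOpenAt_of_locallyQuasiFinite h qS h7
  let p : Spec (CommRingCat.of T) ⟶ Spec (CommRingCat.of A) :=
    Spec.map (CommRingCat.ofHom (algebraMap A T))
  have h9 : UniversallyOpen p := by
    have hf : (algebraMap A T).Flat :=
      RingHom.flat_algebraMap_iff.mpr (inferInstanceAs (Module.Flat A (MvPolynomial (Fin d) A)))
    have hfp : (algebraMap A T).FinitePresentation :=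
      RingHom.finitePresentation_algebraMap.mpr
        (inferInstanceAs (Algebra.FinitePresentation A (MvPolynomial (Fin d) A)))
    have : Flat p := (HasRingHomProperty.Spec_iff (P := @Flat)).mpr hf
    have : LocallyOfFinitePresentation p :=
      (HasRingHomProperty.Spec_iff (P := @LocallyOfFinitePresentation)).mpr hfp
    infer_instance
  have h10 : IsUnivOpenAt (h ≫ p) qS := QSUnivOpen.isUnivOpenAt_comp h p qS h8
  have h11 : h ≫ p = Spec.map (CommRingCat.ofHom (algebraMap C S)) ≫
      Spec.map (CommRingCat.ofHom (algebraMap A C)) := by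
    rw [← Spec.map_comp, ← Spec.map_comp, ← CommRingCat.ofHom_comp, ← CommRingCat.ofHom_comp, hcomp,
      ← IsScalarTower.algebraMap_eq]
  rw [h11] at h10
  have h12 := UnivOpenAt.isUnivOpenAt_of_comp _ _ _ h10
  have h13 : (Spec.map (CommRingCat.ofHom (algebraMap C S))) qS = q := hqS
  rwa [h13] at h12

/-- The integral form: `X` and `Y` irreducible. -/
theorem isUnivOpenAt_of_fibreDimAt_le {X Y : Scheme.{u}} [IrreducibleSpace X] [IrreducibleSpace Y]
    [IsLocallyNoetherian Y] (f : X ⟶ Y) [LocallyOfFiniteType f]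
    [IsDominant f] (x : X) (hy : CAlg2.IsGeomUnibranch (Y.presheaf.stalk (f x)))
    (d : ℕ) (hx : FlatMor.fibreDimAt f x ≤ d)
    (hgen : (d : WithBot ℕ∞) ≤ FlatMor.fibreDimAt f (genericPoint X)) :
    IsUnivOpenAt f x := by
  obtain ⟨W, hxW, hW⟩ := FibreTop.exists_localDim_eq (f.asFiber x)
  obtain ⟨O, hO, hOW⟩ := (f.fiberι (f x)).isEmbedding.isInducing.isOpen_iff.mp W.isOpen
  have hxO : x ∈ O := by
    have : f.asFiber x ∈ (f.fiberι (f x)) ⁻¹' O := by rw [hOW]; exact hxW
    rwa [Set.mem_preimage, Scheme.Hom.fiberι_asFiber] at this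
  obtain ⟨V', hV', hyV', -⟩ := exists_isAffineOpen_mem_and_subset
    (x := f x) (U := (⊤ : Y.Opens)) trivial
  obtain ⟨V, hV, hxV, hle⟩ := exists_isAffineOpen_mem_and_subset
    (x := x) (U := (⟨O, hO⟩ ⊓ f ⁻¹ᵁ V' : X.Opens)) ⟨hxO, hyV'⟩
  have hVV' : V ≤ f ⁻¹ᵁ V' := fun z hz => (hle hz).2
  have hVO : (V : Set X) ⊆ O := fun z hz => (hle hz).1
  let A : Type u := Γ(Y, V')
  let C : Type u := Γ(X, V)
  let : Algebra A C := (f.appLE V' V hVV').hom.toAlgebra
  let k : Spec (CommRingCat.of C) ⟶ X := hV.fromSpec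
  let i : Spec (CommRingCat.of A) ⟶ Y := hV'.fromSpec
  have h : k ≫ f = Spec.map (CommRingCat.ofHom (algebraMap A C)) ≫ i :=
    (IsAffineOpen.SpecMap_appLE_fromSpec f hV' hV hVV').symm
  have : Algebra.FiniteType A C :=
    (HasRingHomProperty.appLE @LocallyOfFiniteType f inferInstance ⟨V', hV'⟩ ⟨V, hV⟩ hVV' :)
  have hAN : IsNoetherianRing A := IsLocallyNoetherian.component_noetherian ⟨V', hV'⟩
  have hrk : Set.range k = (V : Set X) := hV.range_fromSpec
  have hri : Set.range i = (V' : Set Y) := hV'.range_fromSpec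
  obtain ⟨q, hq⟩ : ∃ q : PrimeSpectrum C, k q = x := by
    have : x ∈ Set.range k := by rw [hrk]; exact hxV
    exact this
  have : Nonempty (PrimeSpectrum C) := ⟨q⟩
  have : Nonempty (PrimeSpectrum A) := ⟨PrimeSpectrum.comap (algebraMap A C) q⟩
  have hCirr : IrreducibleSpace (PrimeSpectrum C) := ChevalleyCrit.irreducibleSpace_spec k
  have hAirr : IrreducibleSpace (PrimeSpectrum A) := ChevalleyCrit.irreducibleSpace_spec i
  have hN : (nilradical A).IsPrime := PrimeSpectrum.irreducibleSpace_iff_isPrime_nilradical.mp hAirr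
  have hy' : i (PrimeSpectrum.comap (algebraMap A C) q) = f x := by
    rw [← hq]
    exact congr($(h) q).symm
  have hd : ringKrullDim ((q.asIdeal.under A).Fiber C) ≤ d := by
    refine (FibreTop.ringKrullDim_fiber_le f k i h (PrimeSpectrum.comap (algebraMap A C) q) (f x) hy'
      W O hOW (by rw [hrk]; exact hVO)).trans ?_
    rw [hW]
    exact hx
  have hgen' : ∀ g : C, g ∉ q.asIdeal → (d : WithBot ℕ∞) ≤
      ringKrullDim ((nilradical A).Fiber (Localization.Away g)) := by
    intro g hg
    refine hgen.trans ?_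
    let k' : Spec (CommRingCat.of (Localization.Away g)) ⟶ X :=
      Spec.map (CommRingCat.ofHom (algebraMap C (Localization.Away g))) ≫ k
    have h' : k' ≫ f = Spec.map (CommRingCat.ofHom (algebraMap A (Localization.Away g))) ≫ i := by
      rw [Category.assoc, h, ← Category.assoc, ← Spec.map_comp, ← CommRingCat.ofHom_comp,
        ← IsScalarTower.algebraMap_eq]
    have hne : (Set.range k').Nonempty := by
      obtain ⟨z, -⟩ := (PrimeSpectrum.localization_away_comap_range (Localization.Away g) g).ge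
        (show q ∈ PrimeSpectrum.basicOpen g from hg)
      exact ⟨k' z, z, rfl⟩
    have hmem : genericPoint X ∈ Set.range k' := by
      rw [(genericPoint_spec X).mem_open_set_iff k'.isOpenEmbedding.isOpen_range, Set.univ_inter]
      exact hne
    obtain ⟨ζ, hζ⟩ := hmem
    have hp : i (⟨nilradical A, hN⟩ : PrimeSpectrum A) = f (k' ζ) := by
      rw [ChevalleyCrit.map_nilradical, hζ, ChevalleyCrit.map_genericPoint]
    have := FibreTop.fibreDimAt_le_ringKrullDim f k' i h' ⟨nilradical A, hN⟩ ζ hp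
    rwa [hζ] at this
  have hu : CAlg2.IsGeomUnibranch (Localization.AtPrime (q.asIdeal.under A)) := by
    rw [← hy'] at hy
    exact (K125.PolyUnibranchSch.isGeomUnibranch_stalk_iff A i
      (PrimeSpectrum.comap (algebraMap A C) q)).mp hy
  have h1 := isUnivOpenAt_affine hCirr q hu d hd hgen'
  have h2 : IsUnivOpenAt (Spec.map (CommRingCat.ofHom (algebraMap A C)) ≫ i) q :=
    QSUnivOpen.isUnivOpenAt_comp (Spec.map (CommRingCat.ofHom (algebraMap A C))) i q h1
  rw [← h] at h2
  have h3 := UnivOpenAt.isUnivOpenAt_of_comp _ _ _ h2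
  rwa [hq] at h3

/-- **Chevalley's criterion at a point**: `Y` locally Noetherian, geometrically unibranch at `f x`;
`f` is universally open at `x` as soon as some generization `ξ` of `x` maps to a maximal point of
the base and all the points `w` with `ξ ⤳ w ⤳ x`, `f w = f x` have
`trdeg κ(w)/κ(f w) ≤ trdeg κ(ξ)/κ(f ξ)`. -/
theorem isUnivOpenAt_of_specializes_generic {X Y : Scheme.{u}} [IsLocallyNoetherian Y]
    (f : X ⟶ Y) [LocallyOfFiniteType f]
    (x : X) (hY : CAlg2.IsGeomUnibranch (Y.presheaf.stalk (f x)))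
    (ξ : X) (hξx : ξ ⤳ x) (hξ : ∀ y : Y, y ⤳ f ξ → y = f ξ) (d : ℕ)
    (hd : ∀ w : X, ξ ⤳ w → w ⤳ x → f w = f x → CycB.RelDim.rtd f w ≤ d)
    (hdξ : (d : Cardinal.{u}) ≤ CycB.RelDim.rtd f ξ) :
    IsUnivOpenAt f x := by
  -- an irreducible neighbourhood of `f x`
  have hnil : (nilradical (Y.presheaf.stalk (f x))).IsPrime :=
    (Ideal.Quotient.isDomain_iff_prime _).mp hY.1.1
  obtain ⟨V, hxV, -, hV⟩ := Ega1.LocNoethNhd.exists_irreducible_nhd (f x) hnil
  -- the closure of `ξ`
  obtain ⟨Z, i, hi, hZ, hiξ, hir⟩ := CycA.ClosurePt.exists_closure_subscheme ξ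
  obtain ⟨x₀, hx₀⟩ : x ∈ Set.range i := by
    rw [hir]
    exact specializes_iff_mem_closure.mp hξx
  let g : Z ⟶ Y := i ≫ f
  have hg : ∀ w : Z, g w = f (i w) := fun w => Scheme.Hom.comp_apply _ _ _
  have hx₀V : x₀ ∈ g ⁻¹ᵁ V := by
    change g x₀ ∈ V
    rw [hg, hx₀]
    exact hxV
  have hVi : IrreducibleSpace V := Subtype.irreducibleSpace hV
  let W : Z.Opens := g ⁻¹ᵁ V
  let x₁ : (W : Scheme.{u}) := ⟨x₀, hx₀V⟩
  have hWne : Nonempty W := ⟨x₁⟩
  have hWi : IrreducibleSpace W := by
    infer_instance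
  let g' : (W : Scheme.{u}) ⟶ V := g ∣_ V
  have hg' : g' ≫ V.ι = W.ι ≫ i ≫ f := by
    rw [morphismRestrict_ι]
  have hcomm : ∀ w : (W : Scheme.{u}), V.ι (g' w) = f (i (W.ι w)) := by
    intro w
    rw [← Scheme.Hom.comp_apply, hg', Scheme.Hom.comp_apply, Scheme.Hom.comp_apply]
  have hrtd' : ∀ w : (W : Scheme.{u}), CycB.RelDim.rtd g' w = CycB.RelDim.rtd f (i (W.ι w)) := by
    intro w
    have h1 := CycB.RelDim.rtd_comp g' V.ι w
    have h2 := CycB.RelDim.rtd_comp W.ι (i ≫ f) w
    have h3 := CycB.RelDim.rtd_comp i f (W.ι w)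
    rw [hg', h2, h3, CycB.RelDim.rtd_eq_zero_of_isPreimmersion V.ι,
      CycB.RelDim.rtd_eq_zero_of_isPreimmersion W.ι,
      CycB.RelDim.rtd_eq_zero_of_isPreimmersion i, zero_add, add_zero, add_zero] at h1
    exact h1.symm
  let ξ₁ : (W : Scheme.{u}) := ⟨genericPoint Z, (genericPoint_specializes x₀).mem_open W.2 hx₀V⟩
  have hξ₁ : W.ι ξ₁ = genericPoint Z := rfl
  have hξW : genericPoint (W : Scheme.{u}) = ξ₁ := by
    apply W.ι.isOpenEmbedding.injective
    rw [hξ₁]
    have h1 : W.ι (genericPoint (W : Scheme.{u})) ⤳ W.ι ξ₁ :=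
      (genericPoint_specializes ξ₁).map W.ι.continuous
    have h2 : genericPoint Z ⤳ W.ι (genericPoint (W : Scheme.{u})) := genericPoint_specializes _
    exact (h1.antisymm h2).eq
  -- `f ξ` is the generic point of `V`
  have hηV : V.ι (genericPoint (V : Scheme.{u})) = f ξ := by
    have h1 : V.ι (genericPoint (V : Scheme.{u})) ⤳ V.ι (g' ξ₁) :=
      (genericPoint_specializes _).map V.ι.continuous
    rw [hcomm, hξ₁, hiξ] at h1
    exact hξ _ h1
  have hdom : IsDominant g' := by
    have h1 : g' ξ₁ = genericPoint (V : Scheme.{u}) := by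
      apply V.ι.isOpenEmbedding.injective
      rw [hcomm, hξ₁, hiξ, hηV]
    constructor
    rw [denseRange_iff_closure_range, Set.eq_univ_iff_forall]
    intro v
    have h2 : g' ξ₁ ⤳ v := by rw [h1]; exact genericPoint_specializes v
    have h3 : ({g' ξ₁} : Set (V : Scheme.{u})) ⊆ Set.range g' :=
      Set.singleton_subset_iff.mpr (Set.mem_range_self ξ₁)
    exact closure_mono h3 (specializes_iff_mem_closure.mp h2)
  have hx₁ : i (W.ι x₁) = x := hx₀
  have hYV : CAlg2.IsGeomUnibranch ((V : Scheme.{u}).presheaf.stalk (g' x₁)) := by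
    have e := (asIso (V.ι.stalkMap (g' x₁))).commRingCatIsoToRingEquiv
    have h1 : V.ι (g' x₁) = f x := by rw [hcomm, hx₁]
    rw [← h1] at hY
    exact Flat2G.EtUnibranch.isGeomUnibranch_of_ringEquiv e hY
  have hle : FlatMor.fibreDimAt g' x₁ ≤ d := by
    apply VarietyA.LocDim.fibreDimAt_le
    intro w hw hgw
    rw [hrtd']
    apply hd
    · have h0 : i (genericPoint Z) ⤳ i (W.ι w) := (genericPoint_specializes _).map i.continuous
      rwa [hiξ] at h0
    · have := (hw.map W.ι.continuous).map i.continuous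
      rwa [hx₁] at this
    · rw [← hcomm, hgw, hcomm, hx₁]
  have hge : (d : WithBot ℕ∞) ≤ FlatMor.fibreDimAt g' (genericPoint (W : Scheme.{u})) := by
    obtain ⟨n, hn, hn'⟩ := VarietyA.LocDim.le_fibreDimAt g' ξ₁ ξ₁ specializes_rfl rfl
    rw [hξW]
    refine le_trans ?_ hn'
    rw [hrtd', hξ₁, hiξ] at hn
    rw [hn] at hdξ
    exact_mod_cast hdξ
  have hU := isUnivOpenAt_of_fibreDimAt_le g' x₁ hYV d hle hge
  have h1 : IsUnivOpenAt (g' ≫ V.ι) x₁ := QSUnivOpen.isUnivOpenAt_comp _ V.ι x₁ hU
  rw [hg', ← Category.assoc] at h1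
  have h3 := UnivOpenAt.isUnivOpenAt_of_comp _ _ _ h1
  have h4 : (W.ι ≫ i) x₁ = x := hx₁
  rwa [h4] at h3

end K125.ChevPt
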