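import Groth.Agent.EGA43.K125.ValRtd
import Groth.Agent.CycB.RelDim4
import Groth.Agent.Ega43.OpenUniv
import Groth.Agent.S3404
import Mathlib.RingTheory.Valuation.LocalSubring

/-!
# Universal openness at a maximal point of a fibre and transcendence degrees over generizations
-/

set_option autoImplicit false
universe u

open CategoryTheory AlgebraicGeometry IsLocalRing Limits

namespace K125.ValScheme

open Groth.Agent.CycB.RelDim Groth.Agent EGA43

/-- Every specialization `y' ⤳ y` in a scheme is the image of the specialization from the generic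
to the closed point of the spectrum of a valuation ring. -/
theorem exists_valuationRing_of_specializes {Y : Scheme.{u}} {y' y : Y} (h : y' ⤳ y) :
    ∃ (A : Type u) (_ : CommRing A) (_ : IsDomain A) (_ : ValuationRing A)
      (g : Spec (CommRingCat.of A) ⟶ Y),
        g (closedPoint A) = y ∧ g (⊥ : PrimeSpectrum A) = y' := by
  set ψ := Y.presheaf.stalkSpecializes h ≫ Y.residue y' with hψ
  obtain ⟨A, hA, hloc⟩ := IsLocalRing.exists_factor_valuationRing ψ.hom
  have hcomp : Spec.map ψ ≫ Y.fromSpecStalk y = Y.fromSpecResidueField y' := by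
    rw [hψ, Spec.map_comp, Category.assoc,
      Scheme.SpecMap_stalkSpecializes_fromSpecStalk]
    rfl
  let θ : (Y.presheaf.stalk y) →+* A := ψ.hom.codRestrict A.toSubring hA
  refine ⟨A, inferInstance, inferInstance, inferInstance,
    Spec.map (CommRingCat.ofHom θ) ≫ Y.fromSpecStalk y, ?_, ?_⟩
  · have : IsLocalHom θ := hloc
    have h1 : (Spec.map (CommRingCat.ofHom θ)) (closedPoint A) =
        closedPoint (Y.presheaf.stalk y) :=
      IsLocalRing.comap_closedPoint θ
    exact (Scheme.Hom.comp_apply _ _ _).trans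
        ((congrArg (Y.fromSpecStalk y) h1).trans Scheme.fromSpecStalk_closedPoint)
  · have h2 : Spec.map (CommRingCat.ofHom (algebraMap A (Y.residueField y'))) ≫
        Spec.map (CommRingCat.ofHom θ) ≫ Y.fromSpecStalk y = Y.fromSpecResidueField y' := by
      rw [← Category.assoc, ← Spec.map_comp, ← hcomp, ← CommRingCat.ofHom_comp]
      rfl
    have h3 : (Spec.map (CommRingCat.ofHom (algebraMap A (Y.residueField y'))))
        (⊥ : PrimeSpectrum _) = (⊥ : PrimeSpectrum A) := by
      apply PrimeSpectrum.ext
      exact Ideal.comap_bot_of_injective _ (IsFractionRing.injective A (Y.residueField y'))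
    have h4 := congrArg (fun φ => φ (⊥ : PrimeSpectrum (Y.residueField y'))) h2
    rw [← h3]
    refine (Scheme.Hom.comp_apply _ _ _).symm.trans (h4.trans ?_)
    exact Scheme.fromSpecResidueField_apply _ _

/-- If `f` is universally open at a maximal point `x` of its fibre, then over every generization
`y'` of `f x` there is a generization `w` of `x` with
`trdeg κ(x)/κ(f x) ≤ trdeg κ(w)/κ(y')`. -/
theorem exists_rtd_le_of_isUnivOpenAt {X Y : Scheme.{u}} (f : X ⟶ Y) [LocallyOfFiniteType f]
    (x : X) (hmax : ∀ z : X, z ⤳ x → f z = f x → z = x) (H : IsUnivOpenAt f x) (y' : Y)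
    (h : y' ⤳ f x) : ∃ w : X, w ⤳ x ∧ f w = y' ∧ rtd f x ≤ rtd f w := by
  obtain ⟨A, _, _, _, g, hg1, hg2⟩ := exists_valuationRing_of_specializes h
  have hcomm : ∀ w : ↥(pullback f g), f (pullback.fst f g w) = g (pullback.snd f g w) := by
    intro w
    rw [← Scheme.Hom.comp_apply, pullback.condition, Scheme.Hom.comp_apply]
  obtain ⟨t₀, ht1, ht2⟩ := Scheme.Pullback.exists_preimage_pullback (f := f) (g := g) x
    (closedPoint A) hg1.symm
  obtain ⟨t, htt₀, hst, htmax⟩ := Ega43.OpenUniv.exists_maximal_in_fibre (pullback.snd f g) t₀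
  have hfst : pullback.fst f g t = x := by
    apply hmax
    · have := htt₀.map (pullback.fst f g).continuous
      rwa [ht1] at this
    · rw [hcomm, hst, ← hcomm, ht1]
  have hr : rtd (pullback.snd f g) t = rtd f x := by
    rw [rtd_snd_eq t fun t' _ h2 h3 => htmax t' h3 h2, hfst]
  have hop := H _ g t hfst
  obtain ⟨z, hz, hzη⟩ := (S3404.result (pullback.snd f g) t).1 hop (⊥ : PrimeSpectrum A)
    ((PrimeSpectrum.le_iff_specializes (R := A) ⊥ _).mp bot_le)
  obtain ⟨z₁, hz₁, hsz, hz₁max⟩ := Ega43.OpenUniv.exists_maximal_in_fibre (pullback.snd f g) z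
  refine ⟨pullback.fst f g z₁, ?_, ?_, ?_⟩
  · have := (hz₁.trans hz).map (pullback.fst f g).continuous
    rwa [hfst] at this
  · rw [hcomm, hsz]
    refine Eq.trans ?_ hg2
    exact congrArg g hzη
  · rw [← rtd_snd_eq z₁ fun t' _ h2 h3 => hz₁max t' h3 h2, ← hr]
    exact K125.ValRtd.rtd_le_of_specializes _ (hz₁.trans hz)

end K125.ValScheme
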