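import Groth.Agent.EGA43.K125.LocalDims
import Groth.Agent.EGA43.K125.ValScheme
import Groth.Agent.Ega43.FibreDimFinite

/-!
# The dimension conditions of EGA IV 14.3.13 in terms of points

* `le_dim_opens_of_isUnivOpenAt`: a) ⇒ b′);
* `exists_component`: b′) ⇒ b) (points form);
* `component_dims`: the translation of the points form to dimensions of subsets.
-/

set_option autoImplicit false
universe u

open CategoryTheory AlgebraicGeometry TopologicalSpace Topology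

namespace K125.DimConds

open Groth.Agent.CycB.RelDim Groth.Agent Groth.Agent.Ega4fib.H174.Equidim
  Groth.Agent.Ega4fib.H174.EquidimCrit Groth.Agent.Flat2D.RelDimClosure EGA43

variable {X Y : Scheme.{u}} (f : X ⟶ Y) [LocallyOfFiniteType f]

/-- At a maximal point of its fibre the local dimension of the fibre is the transcendence degree. -/
theorem fibreDimAt_eq_of_maximal (x : X) (hmax : ∀ z : X, z ⤳ x → f z = f x → z = x) (d : ℕ)
    (hd : rtd f x = d) : FlatMor.fibreDimAt f x = d := by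
  apply le_antisymm
  · apply VarietyA.LocDim.fibreDimAt_le
    intro z hz hfz
    rw [hmax z hz hfz, hd]
  · obtain ⟨n, hn, hn'⟩ := VarietyA.LocDim.le_fibreDimAt f x x specializes_rfl rfl
    rw [hd] at hn
    have : d = n := by exact_mod_cast hn
    rw [this]
    exact hn'

theorem le_dim_opens_of_isUnivOpenAt (x : X) (hmax : ∀ z : X, z ⤳ x → f z = f x → z = x)
    (H : IsUnivOpenAt f x) (U : X.Opens) (hx : x ∈ U) (y' : Y) (h : y' ⤳ f x) :
    FlatMor.fibreDimAt f x ≤ topologicalKrullDim ↥((U : Set X) ∩ f ⁻¹' {y'}) := by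
  obtain ⟨d, hd⟩ := Cardinal.lt_aleph0.mp (rtd_lt_aleph0 f x)
  rw [fibreDimAt_eq_of_maximal f x hmax d hd]
  obtain ⟨w, hw, hwy, hle⟩ := K125.ValScheme.exists_rtd_le_of_isUnivOpenAt f x hmax H y' h
  obtain ⟨n, hn, hn'⟩ := K125.LocalDims.exists_rtd_le_dim_opens f U y' w (hw.mem_open U.2 hx) hwy
  refine le_trans ?_ hn'
  rw [hd, hn] at hle
  exact_mod_cast hle

/-- If `ζ` is a maximal point of `X` specializing to `x`, then `rtd f ζ` is at most the local
dimension of the fibre at `x`. -/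
theorem rtd_le_fibreDimAt (x ζ : X) (hζ : ζ ⤳ x) (d : ℕ) (hd : FlatMor.fibreDimAt f x ≤ d) :
    rtd f ζ ≤ d := by
  obtain ⟨w, h1, h2, h3, h4⟩ := exists_maximal_fib f hζ
  refine (rtd_le_of_maximal_fib f h1 h4).trans ?_
  obtain ⟨n, hn, hn'⟩ := VarietyA.LocDim.le_fibreDimAt f x w h2 h3
  rw [hn]
  exact_mod_cast hn'.trans hd

theorem exists_component (x : X) (η : Y) (hηmax : ∀ y : Y, y ⤳ η → y = η)
    (d : ℕ) (hd : FlatMor.fibreDimAt f x = d)
    (h : ∀ U : X.Opens, x ∈ U →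
      (d : WithBot ℕ∞) ≤ topologicalKrullDim ↥((U : Set X) ∩ f ⁻¹' {η})) :
    ∃ ζ : X, (∀ z : X, z ⤳ ζ → z = ζ) ∧ ζ ⤳ x ∧ f ζ = η ∧ rtd f ζ = d ∧
      ∀ w : X, ζ ⤳ w → w ⤳ x → f w = f x → rtd f w ≤ d := by
  obtain ⟨ζ₀, hζ₀, hζ₀η, hζ₀d⟩ := K125.LocalDims.exists_generization f x η d fun U hU =>
    K125.LocalDims.exists_le_rtd_of_le_dim_opens f U η d (h U hU)
  obtain ⟨ζ, hζ, hζf, hζmax⟩ := Ega43.OpenUniv.exists_maximal_in_fibre f ζ₀
  have hζη : f ζ = η := hζf.trans hζ₀η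
  have hζx : ζ ⤳ x := hζ.trans hζ₀
  have hmaxX : ∀ z : X, z ⤳ ζ → z = ζ := by
    intro z hz
    apply hζmax z hz
    have h1 := hz.map f.continuous
    rw [hζη] at h1
    rw [hηmax _ h1, hζη]
  refine ⟨ζ, hmaxX, hζx, hζη, ?_, ?_⟩
  · apply le_antisymm
    · exact rtd_le_fibreDimAt f x ζ hζx d hd.le
    · exact hζ₀d.trans (VarietyA.LocDim.rtd_le_of_specializes f hζ hζf)
  · intro w _ hw hfw
    obtain ⟨n, hn, hn'⟩ := VarietyA.LocDim.le_fibreDimAt f x w hw hfw
    rw [hn]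
    exact_mod_cast hn'.trans hd.le

/-- A generic point `η'` of `closure {η}` is `η`. -/
theorem eq_of_closure_eq {T : Type*} [TopologicalSpace T] [T0Space T] {a b : T}
    (h : closure ({a} : Set T) = closure {b}) : a = b :=
  (inseparable_iff_closure_eq.mpr h).eq

/-- Dimensions of the component `closure {ζ}`. -/
theorem component_dims (x ζ : X) (hζ : ζ ⤳ x) (d : ℕ) (hd : rtd f ζ = d)
    (hle : ∀ w : X, ζ ⤳ w → w ⤳ x → f w = f x → rtd f w ≤ d) :
    FlatMor.localDim ↥(closure ({ζ} : Set X) ∩ f ⁻¹' {f x})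
      ⟨x, specializes_iff_mem_closure.mp hζ, rfl⟩ = d ∧
    ∀ η : Y, closure ({η} : Set Y) = closure {f ζ} →
      topologicalKrullDim ↥(closure ({ζ} : Set X) ∩ f ⁻¹' {η}) = d := by
  refine ⟨(localDim_fib_eq_iff f hζ d hd).mpr hle, ?_⟩
  intro η hη
  obtain rfl := eq_of_closure_eq hη
  obtain ⟨n, hn, hn'⟩ := exists_dim_fib f ζ
  rw [hd] at hn
  have : d = n := by exact_mod_cast hn
  rw [this]
  exact hn'

/-- Converse of `component_dims`: from the equality of dimensions to transcendence degrees. -/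
theorem component_dims_conv (x ζ : X) (hζ : ζ ⤳ x)
    (h : FlatMor.localDim ↥(closure ({ζ} : Set X) ∩ f ⁻¹' {f x})
      ⟨x, specializes_iff_mem_closure.mp hζ, rfl⟩ =
        topologicalKrullDim ↥(closure ({ζ} : Set X) ∩ f ⁻¹' {f ζ})) :
    ∃ d : ℕ, rtd f ζ = d ∧ ∀ w : X, ζ ⤳ w → w ⤳ x → f w = f x → rtd f w ≤ d := by
  obtain ⟨n, hn, hn'⟩ := exists_dim_fib f ζ
  refine ⟨n, hn, ?_⟩
  rw [← localDim_fib_eq_iff f hζ n hn]
  exact h.trans hn'

end K125.DimConds
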