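import Groth.Agent.EGA43.K125.FibDims
import Groth.Agent.Ega4fib.H117.EquidimDim
import Groth.Agent.Ega4fib.H175.JacobsonDim
import Groth.Agent.Ega4fib.H111.FibFormula
import Groth.Agent.Ega4fib.H112.DimGen

/-!
# Equidimensional points over a geometrically unibranch point (EGA IV 14.4.4)
-/

set_option autoImplicit false
universe u v

open CategoryTheory AlgebraicGeometry Limits Topology TopologicalSpace

namespace K125.EquidimPt

open Groth.Agent EGA43 Groth.Agent.Ega43 Groth.Agent.CycB Groth.Agent.CycB.RelDim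
  Groth.Agent.Ega4fib.H174.EquidimCrit Groth.Agent.Ega4fib.H174.Equidim

variable {X Y : Scheme.{u}} (f : X ⟶ Y) [LocallyOfFiniteType f]

theorem condB_of_isEquidimAt [IsLocallyNoetherian Y] (x : X) (h : IsEquidimAt f x) (z : X)
    (hz : z ⤳ x) (hfz : f z = f x) : K125.TfaePt.CondB f z := by
  have hXN : IsLocallyNoetherian X := LocallyOfFiniteType.isLocallyNoetherian f
  obtain ⟨e, he⟩ := (isEquidimAt_iff_generic f x).mp h
  obtain ⟨ζ, hζ, hζz⟩ := exists_maximal_specializes z
  obtain ⟨h1, h2, h3⟩ := he ζ hζ (hζz.trans hz)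
  exact ⟨ζ, hζ, hζz, h1, e, h2, fun w hw hwz hfw => h3 w hw (hwz.trans hz) (hfw.trans hfz)⟩

/-- `dim O_{X,x}/𝔭_ζ` for `ζ` the generic point of a component as in b) of 14.4.1. -/
theorem dim_locQuot_eq [IsLocallyNoetherian Y] (x ζ : X)
    (hy : CAlg2.IsGeomUnibranch (Y.presheaf.stalk (f x))) (hζx : ζ ⤳ x)
    (hη : ∀ y' : Y, y' ⤳ f ζ → y' = f ζ) (e : ℕ) (he : rtd f ζ = e)
    (hle : ∀ w : X, ζ ⤳ w → w ⤳ x → f w = f x → rtd f w ≤ e) (t : ℕ) (ht : rtd f x = t) :
    ∃ c : ℕ, c + t = e ∧ ringKrullDim (Cyc.LocQuot x ζ hζx) =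
      ringKrullDim (Y.presheaf.stalk (f x)) + (c : WithBot ℕ∞) := by
  obtain ⟨W, j, hj, hW, hjg, hjr⟩ := CycA.ClosurePt.exists_closure_subscheme ζ
  obtain ⟨x', rfl⟩ : x ∈ Set.range j := by
    rw [hjr]; exact specializes_iff_mem_closure.mp hζx
  let g : W ⟶ Y := j ≫ f
  have hXN : IsLocallyNoetherian X := LocallyOfFiniteType.isLocallyNoetherian f
  have hWN : IsLocallyNoetherian W := LocallyOfFiniteType.isLocallyNoetherian g
  have hg : ∀ w : W, g w = f (j w) := fun w => Scheme.Hom.comp_apply _ _ _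
  have hrtd : ∀ w : W, rtd g w = rtd f (j w) := fun w => rtd_comp_closedImmersion j f w
  have hgen : ∀ w : W, ζ ⤳ j w := by
    intro w
    have := (genericPoint_specializes w).map j.continuous
    rwa [hjg] at this
  have hmaxW : ∀ z : W, z ⤳ genericPoint W → z = genericPoint W := fun z hz =>
    (hz.antisymm (genericPoint_specializes z)).eq
  have hgη : ∀ y' : Y, y' ⤳ g (genericPoint W) → y' = g (genericPoint W) := by
    rw [hg, hjg]
    exact hη
  have hbound : ∀ w : W, w ⤳ x' → g w = g x' → rtd g w ≤ e := by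
    intro w hw hgw
    rw [hrtd]
    exact hle _ (hgen w) (hw.map j.continuous) (by rw [← hg, hgw, hg])
  -- openness of `g` at the points of the fibre
  have hopen : ∀ z : W, z ⤳ x' → g z = g x' → IsOpenAt g z := by
    intro z hz hgz
    have hB : K125.TfaePt.CondB g z :=
      ⟨genericPoint W, hmaxW, genericPoint_specializes z, hgη, e, by rw [hrtd, hjg, he],
        fun w _ hw hgw => hbound w (hw.trans hz) (hgw.trans hgz)⟩
    refine K125.TfaePt.isOpenAt_of_isUnivOpenAt
      (K125.TfaePt.isUnivOpenAt_of_condB g z ?_ hB)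
    rw [hgz]
    exact hy
  have h2559 := S2559.result g x' (by
      intro z hz _
      have h3 : g.fiberι (g x') z ⤳ x' := by
        have := (specializes_iff_mem_closure.mpr hz).map (g.fiberι (g x')).continuous
        rwa [Scheme.Hom.fiberι_asFiber] at this
      have h4 : g (g.fiberι (g x') z) = g x' := by
        have : g.fiberι (g x') z ∈ Set.range (g.fiberι (g x')) := ⟨z, rfl⟩
        rw [Scheme.Hom.range_fiberι] at this
        exact this
      exact hopen _ h3 h4)
  -- the local dimension of the fibre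
  have hfd : FlatMor.fibreDimAt g x' = e := by
    apply le_antisymm
    · exact VarietyA.LocDim.fibreDimAt_le g x' e hbound
    · have h1 := K125.DimConds.rtd_le_fibreDimAt g x' (genericPoint W) (genericPoint_specializes x')
      obtain ⟨d, hd⟩ := Ega43.FibreDimFinite.exists_fibreDimAt_eq g x'
      have h2 := h1 d hd.le
      rw [hrtd, hjg, he] at h2
      rw [hd]
      exact_mod_cast h2
  obtain ⟨n, hn, hn'⟩ := Ega4fib.H111.FibFormula.fibreDimAt_eq g x'
  have hnt : n = t := by
    rw [hrtd, ht] at hn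
    exact_mod_cast hn.symm
  rw [hfd, hnt] at hn'
  -- the dimension of the local ring of `W`
  have hdimW : ringKrullDim (Cyc.LocQuot (j x') ζ hζx) = ringKrullDim (W.presheaf.stalk x') := by
    rw [← Ega4fib.H112.DimGen.ringKrullDim_locQuot_genericPoint x' (genericPoint_specializes x'),
      ← Ega4fib.H175.JacobsonDim.dim_between, ← Ega4fib.H175.JacobsonDim.dim_between]
    let S : Set W := {t | genericPoint W ⤳ t ∧ t ⤳ x'}
    have himg : j '' S = {t : X | ζ ⤳ t ∧ t ⤳ j x'} := by
      ext t
      constructor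
      · rintro ⟨s, ⟨-, hs⟩, rfl⟩
        exact ⟨hgen s, hs.map j.continuous⟩
      · rintro ⟨h1, h2⟩
        obtain ⟨s, rfl⟩ : t ∈ Set.range j := by
          rw [hjr]; exact specializes_iff_mem_closure.mp h1
        exact ⟨s, ⟨genericPoint_specializes s, j.isEmbedding.isInducing.specializes_iff.mp h2⟩, rfl⟩
    rw [← himg]
    exact (IsHomeomorph.topologicalKrullDim_eq _
      (j.isEmbedding.homeomorphImage S).isHomeomorph).symm
  rw [hdimW]
  change _ = ringKrullDim (Y.presheaf.stalk (g x')) +
    ringKrullDim ((g.fiber (g x')).presheaf.stalk (g.asFiber x')) at h2559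
  generalize hD : ringKrullDim ((g.fiber (g x')).presheaf.stalk (g.asFiber x')) = D at *
  induction D using WithBot.recBotCoe with
  | bot =>
    exfalso
    rw [WithBot.bot_add] at hn'
    exact absurd hn' (by simp)
  | coe D =>
    induction D using ENat.recTopCoe with
    | top =>
      exfalso
      have h1 : ((e : ℕ∞) : WithBot ℕ∞) = ((⊤ + (t : ℕ∞) : ℕ∞) : WithBot ℕ∞) := by
        rw [WithBot.coe_add]
        exact hn'
      have h2 := WithBot.coe_injective h1
      rw [top_add] at h2
      exact absurd h2 (by simp)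
    | coe c =>
      refine ⟨c, ?_, h2559⟩
      have h1 : (e : WithBot ℕ∞) = ((c + t : ℕ) : WithBot ℕ∞) := by
        rw [hn']
        push_cast
        rfl
      have h2 : e = c + t := by exact_mod_cast h1
      exact h2.symm

/-- An equidimensional point over a geometrically unibranch point has an equidimensional local
ring. -/
theorem isEquidim_stalk_of_isEquidimAt [IsLocallyNoetherian Y] (x : X)
    (hy : CAlg2.IsGeomUnibranch (Y.presheaf.stalk (f x))) (h : IsEquidimAt f x) :
    EGA4.IsEquidim (X.presheaf.stalk x) := by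
  have hXN : IsLocallyNoetherian X := LocallyOfFiniteType.isLocallyNoetherian f
  obtain ⟨e, he⟩ := (isEquidimAt_iff_generic f x).mp h
  obtain ⟨t, ht⟩ := Cardinal.lt_aleph0.mp (rtd_lt_aleph0 f x)
  have key : ∀ 𝔭 ∈ minimalPrimes (X.presheaf.stalk x),
      ∃ c : ℕ, c + t = e ∧ ringKrullDim (X.presheaf.stalk x ⧸ 𝔭) =
        ringKrullDim (Y.presheaf.stalk (f x)) + (c : WithBot ℕ∞) := by
    intro 𝔭 h𝔭
    obtain ⟨ζ, hζx, rfl, hζ⟩ :=
      Ega4fib.H117.EquidimDim.exists_point_of_mem_minimalPrimes x 𝔭 h𝔭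
    obtain ⟨h1, h2, h3⟩ := he ζ hζ hζx
    exact dim_locQuot_eq f x ζ hy hζx h1 e h2 h3 t ht
  apply Ega4fib.H117.EquidimDim.isEquidim_of_forall
  intro p hp q hq
  obtain ⟨c, hc, h1⟩ := key p hp
  obtain ⟨c', hc', h2⟩ := key q hq
  have : c = c' := by omega
  rw [h1, h2, this]

/-- The local ring of a unibranch point is equidimensional. -/
theorem isEquidim_of_isUnibranch {A : Type u} [CommRing A] (h : (nilradical A).IsPrime) :
    EGA4.IsEquidim A := by
  apply Ega4fib.H117.EquidimDim.isEquidim_of_forall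
  intro p hp q hq
  have h1 : ∀ p ∈ minimalPrimes A, p = nilradical A := by
    intro p hp
    have hpp : p.IsPrime := hp.1.1
    exact le_antisymm (hp.2 ⟨h, bot_le⟩ (nilradical_le_prime p)) (nilradical_le_prime p)
  rw [h1 p hp, h1 q hq]

end K125.EquidimPt
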