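import Groth.Agent.EGA43.K125.TfaePt

/-!
# The equivalences of EGA IV 14.4.2 for all points of a fibre
-/

set_option autoImplicit false
universe u v

open CategoryTheory AlgebraicGeometry Limits Topology TopologicalSpace

namespace K125.FibDims

open Groth.Agent EGA43 Groth.Agent.Ega43 Groth.Agent.CycB Groth.Agent.CycB.RelDim
  Groth.Agent.Ega4fib.H174.EquidimCrit

theorem le_of_forall_natCast_le {a b : WithBot ℕ∞}
    (h : ∀ n : ℕ, (n : WithBot ℕ∞) ≤ a → (n : WithBot ℕ∞) ≤ b) : a ≤ b := by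
  induction a using WithBot.recBotCoe with
  | bot => exact bot_le
  | coe a =>
    induction b using WithBot.recBotCoe with
    | bot => exact absurd (h 0 (by exact_mod_cast (bot_le : (0 : ℕ∞) ≤ a))) (by simp)
    | coe b =>
      rw [WithBot.coe_le_coe, ← ENat.forall_natCast_le_iff_le]
      intro n hn
      exact_mod_cast h n (by exact_mod_cast hn)

variable {X Y : Scheme.{u}} (f : X ⟶ Y) [LocallyOfFiniteType f]

theorem exists_rtd_eq_fibreDimAt (x : X) (d : ℕ) (hd : FlatMor.fibreDimAt f x = d) :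
    ∃ w : X, w ⤳ x ∧ f w = f x ∧ rtd f w = d := by
  by_contra hcon
  push Not at hcon
  have hlt : ∀ w : X, w ⤳ x → f w = f x → ∃ n : ℕ, rtd f w = n ∧ n + 1 ≤ d := by
    intro w hw hfw
    obtain ⟨n, hn, hn'⟩ := VarietyA.LocDim.le_fibreDimAt f x w hw hfw
    refine ⟨n, hn, ?_⟩
    have h1 := hcon w hw hfw
    rw [hd] at hn'
    have h2 : n ≤ d := by exact_mod_cast hn'
    have h3 : n ≠ d := by
      rintro rfl
      exact h1 hn
    omega
  obtain ⟨n₀, -, hn₀⟩ := hlt x specializes_rfl rfl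
  have h1 : FlatMor.fibreDimAt f x ≤ ((d - 1 : ℕ) : WithBot ℕ∞) := by
    apply VarietyA.LocDim.fibreDimAt_le
    intro w hw hfw
    obtain ⟨n, hn, hn'⟩ := hlt w hw hfw
    rw [hn]
    have : n ≤ d - 1 := by omega
    exact_mod_cast this
  rw [hd] at h1
  have h2 : d ≤ d - 1 := by exact_mod_cast h1
  omega

theorem fibreDimAt_le_dim_opens (x : X) (U : X.Opens) (hx : x ∈ U) :
    FlatMor.fibreDimAt f x ≤ topologicalKrullDim ↥((U : Set X) ∩ f ⁻¹' {f x}) := by
  obtain ⟨d, hd⟩ := Ega43.FibreDimFinite.exists_fibreDimAt_eq f x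
  obtain ⟨w, hw, hfw, hr⟩ := exists_rtd_eq_fibreDimAt f x d hd
  obtain ⟨n, hn, hn'⟩ := K125.LocalDims.exists_rtd_le_dim_opens f U (f x) w (hw.mem_open U.2 hx) hfw
  rw [hd]
  rw [hr] at hn
  have : d = n := by exact_mod_cast hn
  rw [this]
  exact hn'

/-- If `f` is universally open at the points over `y`, the dimensions of the fibres of the opens
of `X` do not drop under generization. -/
theorem dim_opens_le (y : Y) (h : ∀ x : X, f x = y → IsUnivOpenAt f x) (U : X.Opens) (y' : Y)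
    (hy' : y' ⤳ y) :
    topologicalKrullDim ↥((U : Set X) ∩ f ⁻¹' {y}) ≤
      topologicalKrullDim ↥((U : Set X) ∩ f ⁻¹' {y'}) := by
  apply le_of_forall_natCast_le
  intro n hn
  obtain ⟨w, hw, rfl, hwn⟩ := K125.LocalDims.exists_le_rtd_of_le_dim_opens f U y n hn
  obtain ⟨z, hz, hfz, hzmax⟩ := OpenUniv.exists_maximal_in_fibre f w
  have h1 : rtd f w ≤ rtd f z := VarietyA.LocDim.rtd_le_of_specializes f hz hfz
  obtain ⟨m, hm, hm'⟩ := VarietyA.LocDim.le_fibreDimAt f z z specializes_rfl rfl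
  have h2 := K125.DimConds.le_dim_opens_of_isUnivOpenAt f z hzmax (h z hfz) U
    (hz.mem_open U.2 hw) y' (by rw [hfz]; exact hy')
  refine le_trans ?_ (hm'.trans h2)
  have h3 := hwn.trans h1
  rw [hm] at h3
  exact_mod_cast h3

/-- Universal openness at all points over `y` from condition b). -/
theorem isUnivOpenAt_of_forall_condB [IsLocallyNoetherian Y] (y : Y)
    (hy : CAlg2.IsGeomUnibranch (Y.presheaf.stalk y))
    (h : ∀ x : X, f x = y → (∀ z : X, z ⤳ x → f z = f x → z = x) → K125.TfaePt.CondB f x)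
    (x : X) (hx : f x = y) : IsUnivOpenAt f x := by
  obtain ⟨z, hz, hfz, hzmax⟩ := OpenUniv.exists_maximal_in_fibre f x
  have h1 := h z (hfz.trans hx) hzmax
  have h2 := K125.TfaePt.isUnivOpenAt_of_condB f z (by rw [hfz, hx]; exact hy) h1
  exact OpenUniv.isUnivOpenAt_of_specializes f hz hfz h2

end K125.FibDims
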