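import Groth.Agent.EGA43.K125.ChevPt
import Groth.Agent.EGA43.K125.DimConds
import Groth.Agent.Ega4fib.H114.GenComp
import Groth.Agent.Ega1.GenPts
import Groth.Agent.S2559

/-!
# The equivalences of EGA IV 14.4.1–14.4.4 at a point, in terms of generic points

`CondB f x`: some maximal point `ζ` of `X` specializing to `x` lies over a maximal point of `Y`, and
the fibre of `closure {ζ}` at `x` has dimension at most `trdeg κ(ζ)/κ(f ζ)`.
-/

set_option autoImplicit false
universe u v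

open CategoryTheory AlgebraicGeometry Limits Topology TopologicalSpace

namespace K125.TfaePt

open Groth.Agent EGA43 Groth.Agent.Ega43 Groth.Agent.CycB Groth.Agent.CycB.RelDim
  Groth.Agent.Ega4fib.H174.EquidimCrit

theorem isOpenAt_of_isUnivOpenAt {X Y : Scheme.{u}} {f : X ⟶ Y} {x : X} (h : IsUnivOpenAt f x) :
    IsOpenAt f x :=
  UnivOpenAt.isOpenAt_of_isPullback h (f' := f) (p := 𝟙 X) (g := 𝟙 Y) (IsPullback.of_horiz_isIso ⟨by simp⟩) x
    (by simp)

/-- Over a unibranch point there is only one maximal point above a given point. -/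
theorem eq_of_maximal {Y : Scheme.{u}} {y η η' : Y} (hy : (nilradical (Y.presheaf.stalk y)).IsPrime)
    (h : η ⤳ y) (h' : η' ⤳ y) (hη : ∀ y' : Y, y' ⤳ η → y' = η)
    (hη' : ∀ y' : Y, y' ⤳ η' → y' = η') : η = η' := by
  let P : PrimeSpectrum (Y.presheaf.stalk y) := ⟨nilradical _, hy⟩
  have h1 : LocQuot.primeOf h = P := by
    apply PrimeSpectrum.ext
    apply le_antisymm
    · rw [LocQuot.primeOf_asIdeal]
      exact K125.UnibranchQF.ker_le_nilradical h hη hy
    · exact nilradical_le_prime _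
  have h2 : LocQuot.primeOf h' = P := by
    apply PrimeSpectrum.ext
    apply le_antisymm
    · rw [LocQuot.primeOf_asIdeal]
      exact K125.UnibranchQF.ker_le_nilradical h' hη' hy
    · exact nilradical_le_prime _
  rw [← LocQuot.ptOf_primeOf h, h1, ← h2, LocQuot.ptOf_primeOf]

theorem nilradical_isPrime {A : Type u} [CommRing A] [IsLocalRing A] (h : CAlg2.IsUnibranch A) :
    (nilradical A).IsPrime := (Ideal.Quotient.isDomain_iff_prime _).mp h.1

/-- The points form of condition b) of 14.4.1. -/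
def CondB {X Y : Scheme.{u}} (f : X ⟶ Y) (x : X) : Prop :=
  ∃ ζ : X, (∀ z : X, z ⤳ ζ → z = ζ) ∧ ζ ⤳ x ∧ (∀ y' : Y, y' ⤳ f ζ → y' = f ζ) ∧
    ∃ d : ℕ, rtd f ζ = d ∧ ∀ w : X, ζ ⤳ w → w ⤳ x → f w = f x → rtd f w ≤ d

/-- An irreducible component of a scheme is the closure of a maximal point. -/
theorem exists_eq_closure {X : Scheme.{u}} {Z : Set X} (hZ : Z ∈ irreducibleComponents (X : Type u)) :
    ∃ ζ : X, Z = closure {ζ} ∧ ∀ z : X, z ⤳ ζ → z = ζ := by
  have hZi : IsIrreducible Z := hZ.1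
  have hZc : IsClosed Z := isClosed_of_mem_irreducibleComponents Z hZ
  obtain ⟨ζ, hζ⟩ := QuasiSober.sober hZi hZc
  have h1 : closure {ζ} = Z := hζ
  refine ⟨ζ, h1.symm, ?_⟩
  rw [← Ega1.GenPts.closure_mem_irreducibleComponents_iff', h1]
  exact hZ

theorem closure_image_closure {X Y : Scheme.{u}} (f : X ⟶ Y) (ζ : X) :
    closure (f '' closure {ζ}) = closure {f ζ} := by
  apply le_antisymm
  · apply closure_minimal _ isClosed_closure
    rintro _ ⟨w, hw, rfl⟩
    exact specializes_iff_mem_closure.mp ((specializes_iff_mem_closure.mpr hw).map f.continuous)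
  · apply closure_mono
    rintro _ rfl
    exact ⟨ζ, subset_closure rfl, rfl⟩

variable {X Y : Scheme.{u}} (f : X ⟶ Y) [LocallyOfFiniteType f]

theorem condB_iff (x : X) (hy : (nilradical (Y.presheaf.stalk (f x))).IsPrime) :
    CondB f x ↔ ∀ Y₀ ∈ irreducibleComponents (Y : Type u), f x ∈ Y₀ →
        ∃ Z ∈ irreducibleComponents (X : Type u), ∃ hx : x ∈ Z, closure (f '' Z) = Y₀ ∧
          ∀ η : Y, closure ({η} : Set Y) = Y₀ →
            FlatMor.localDim ↥(Z ∩ f ⁻¹' {f x}) ⟨x, ⟨hx, rfl⟩⟩ =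
              topologicalKrullDim ↥(Z ∩ f ⁻¹' {η}) := by
  constructor
  · rintro ⟨ζ, hζ, hζx, hη, d, hd, hle⟩ Y₀ hY₀ hxY₀
    obtain ⟨η, rfl, hηmax⟩ := exists_eq_closure hY₀
    have hηx : η ⤳ f x := specializes_iff_mem_closure.mpr hxY₀
    have hζη : f ζ = η := eq_of_maximal hy (hζx.map f.continuous) hηx hη hηmax
    refine ⟨closure {ζ}, Ega1.GenPts.closure_mem_irreducibleComponents_iff'.mpr hζ,
      specializes_iff_mem_closure.mp hζx, ?_, ?_⟩
    · rw [closure_image_closure, hζη]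
    · intro η' hη'
      obtain ⟨h1, h2⟩ := K125.DimConds.component_dims f x ζ hζx d hd hle
      rw [h1, h2 η' (by rw [hη', hζη])]
  · intro H
    have hir : irreducibleComponent (f x) ∈ irreducibleComponents (Y : Type u) :=
      irreducibleComponent_mem_irreducibleComponents _
    obtain ⟨Z, hZ, hx, hZY, hdim⟩ := H _ hir mem_irreducibleComponent
    obtain ⟨η, hη, hηmax⟩ := exists_eq_closure hir
    obtain ⟨ζ, rfl, hζ⟩ := exists_eq_closure hZ
    have hζη : f ζ = η := by
      apply K125.DimConds.eq_of_closure_eq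
      rw [← hη, ← hZY, closure_image_closure]
    have hζx : ζ ⤳ x := specializes_iff_mem_closure.mpr hx
    obtain ⟨d, hd, hle⟩ := K125.DimConds.component_dims_conv f x ζ hζx
      (hdim (f ζ) (by rw [hζη, ← hη]))
    refine ⟨ζ, hζ, hζx, ?_, d, hd, hle⟩
    rw [hζη]
    exact hηmax

theorem isUnivOpenAt_of_condB [IsLocallyNoetherian Y] (x : X)
    (hy : CAlg2.IsGeomUnibranch (Y.presheaf.stalk (f x))) (h : CondB f x) : IsUnivOpenAt f x := by
  obtain ⟨ζ, hζ, hζx, hη, d, hd, hle⟩ := h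
  exact K125.ChevPt.isUnivOpenAt_of_specializes_generic f x hy ζ hζx hη d hle hd.ge

/-- Openness at a point `x`, maximal in its fibre: some component through `x` dominates a component
of the base and has at `x` the correct dimension. -/
theorem exists_component_of_isOpenAt [IsLocallyNoetherian Y] (x : X)
    (hmax : ∀ z : X, z ⤳ x → f z = f x → z = x) (hopen : IsOpenAt f x) :
    ∃ ζ : X, (∀ z : X, z ⤳ ζ → z = ζ) ∧ ζ ⤳ x ∧ (∀ y' : Y, y' ⤳ f ζ → y' = f ζ) ∧
      rtd f ζ = rtd f x := by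
  have hXN : IsLocallyNoetherian X := LocallyOfFiniteType.isLocallyNoetherian f
  have h1 : ringKrullDim (Y.presheaf.stalk (f x)) ≤ ringKrullDim (X.presheaf.stalk x) := by
    have h2 := S2559.result f x (by
      intro z hz _
      have h3 : f.fiberι (f x) z ⤳ x := by
        have := (specializes_iff_mem_closure.mpr hz).map (f.fiberι (f x)).continuous
        rwa [Scheme.Hom.fiberι_asFiber] at this
      have h4 : f (f.fiberι (f x) z) = f x := by
        have : f.fiberι (f x) z ∈ Set.range (f.fiberι (f x)) := ⟨z, rfl⟩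
        rw [Scheme.Hom.range_fiberι] at this
        exact this
      have h5 := hmax _ h3 h4
      change IsOpenAt f (f.fiberι (f x) z)
      rw [h5]
      exact hopen)
    change _ = ringKrullDim (Y.presheaf.stalk (f x)) + _ at h2
    rw [h2]
    have h3 : (0 : WithBot ℕ∞) ≤
        ringKrullDim ((f.fiber (f x)).presheaf.stalk (f.asFiber x)) := ringKrullDim_nonneg_of_nontrivial
    exact le_add_of_nonneg_right h3
  obtain ⟨ζ, hζx, hζ, hdim⟩ := Ega4fib.H114.GenComp.exists_generic_dim x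
  have h2 : ringKrullDim (Y.presheaf.stalk (f x)) ≤ ringKrullDim (Cyc.LocQuot x ζ hζx) :=
    h1.trans hdim
  have h3 : rtd f x ≤ rtd f ζ := OpenUniv.rtd_le_rtd f hζx h2
  have h4 : rtd f ζ ≤ rtd f x := by
    obtain ⟨w, h1, h2, h3, h4⟩ := exists_maximal_fib f hζx
    have h5 := rtd_le_of_maximal_fib f h1 h4
    rwa [hmax w h2 h3] at h5
  have h5 : rtd f ζ = rtd f x := le_antisymm h4 h3
  refine ⟨ζ, hζ, hζx, ?_, h5⟩
  intro y' hy'
  by_contra hne
  have h6 := Ega4fib.H114.GenComp.ringKrullDim_locQuot_add_one_le (hζx.map f.continuous) hy' hne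
  obtain ⟨dX, dY, hX, hY, hle⟩ := DimIneq.dim_ineq f hζx
  obtain ⟨a, ha⟩ := Cardinal.lt_aleph0.mp (rtd_lt_aleph0 f x)
  change (dX : Cardinal.{u}) + rtd f x ≤ (dY : Cardinal.{u}) + rtd f ζ at hle
  rw [h5, ha] at hle
  have h7 : dX + a ≤ dY + a := by exact_mod_cast hle
  have h8 := h6.trans h2
  rw [hY, hX] at h8
  have h9 : dY + 1 ≤ dX := by exact_mod_cast h8
  omega

theorem condB_of_isOpenAt [IsLocallyNoetherian Y] (x : X)
    (hmax : ∀ z : X, z ⤳ x → f z = f x → z = x) (hopen : IsOpenAt f x) : CondB f x := by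
  obtain ⟨ζ, hζ, hζx, hη, hd⟩ := exists_component_of_isOpenAt f x hmax hopen
  obtain ⟨a, ha⟩ := Cardinal.lt_aleph0.mp (rtd_lt_aleph0 f x)
  refine ⟨ζ, hζ, hζx, hη, a, by rw [hd, ha], ?_⟩
  intro w _ hw hfw
  rw [hmax w hw hfw, ha]

/-- b′) ⇒ b) -/
theorem condB_of_le_dim (x : X) (η : Y) (hη : ∀ y' : Y, y' ⤳ η → y' = η)
    (h : ∀ U : X.Opens, x ∈ U →
      FlatMor.fibreDimAt f x ≤ topologicalKrullDim ↥((U : Set X) ∩ f ⁻¹' {η})) : CondB f x := by
  obtain ⟨d, hd⟩ := Ega43.FibreDimFinite.exists_fibreDimAt_eq f x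
  obtain ⟨ζ, h1, h2, h3, h4, h5⟩ := K125.DimConds.exists_component f x η hη d hd
    (fun U hU => by rw [← hd]; exact h U hU)
  refine ⟨ζ, h1, h2, ?_, d, h4, h5⟩
  rw [h3]
  exact hη

end K125.TfaePt
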