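import Groth.Agent.EGA43.K125.QSAffine
import Groth.Agent.EGA43.K125.TfaePt
import Groth.Agent.Ega43.QSUnivOpen

/-!
# Universal openness at a maximal point of a fibre, tested on finite base changes (EGA IV 14.4.9)
-/

set_option autoImplicit false
universe u
namespace K125.FiniteBC

open TensorProduct CategoryTheory AlgebraicGeometry EGA43 Groth.Agent.Ega43.UnivOpenAt
  Groth.Agent.Ega43 Groth.Agent

/-- Openness at the points over `x` of the base change of `f` to any `T` quasi-finite and separated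
over `Y`. -/
theorem isOpenAt_of_quasiFinite {X Y : Scheme.{u}} [CompactSpace Y] [QuasiSeparatedSpace Y] (f : X ⟶ Y)
    (x : X)
    (H : ∀ (Y₁ : Scheme.{u}) (g : Y₁ ⟶ Y) [IsFinite g], ∀ x' : ↥(Limits.pullback f g),
      Limits.pullback.fst f g x' = x → IsOpenAt (Limits.pullback.snd f g) x')
    {T : Scheme.{u}} (t : T ⟶ Y) [LocallyQuasiFinite t] [LocallyOfFiniteType t] [QuasiCompact t]
    [IsSeparated t] (x' : ↥(Limits.pullback f t)) (hx' : Limits.pullback.fst f t x' = x) :
    IsOpenAt (Limits.pullback.snd f t) x' := by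
  obtain ⟨T', j, π, hj, -, -, hπ, rfl⟩ := Groth.Agent.FlatA.ZMTFactor.exists_factor t
  have h1 := IsPullback.of_right' (IsPullback.of_hasPullback f (j ≫ π))
    (IsPullback.of_hasPullback f π)
  set k := (IsPullback.of_hasPullback f π).lift (Limits.pullback.fst f (j ≫ π))
    (Limits.pullback.snd f (j ≫ π) ≫ j) (by
      rw [(IsPullback.of_hasPullback f (j ≫ π)).w, Category.assoc]) with hk
  have hk1 : k ≫ Limits.pullback.fst f π = Limits.pullback.fst f (j ≫ π) :=
    (IsPullback.of_hasPullback f π).lift_fst _ _ _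
  have hko : IsOpenImmersion k := MorphismProperty.of_isPullback (P := @IsOpenImmersion) h1.flip hj
  intro W hW
  have h2 := H T' π (k x') (by rw [← Scheme.Hom.comp_apply, hk1, hx']) _
    (k.isOpenEmbedding.isOpenMap.image_mem_nhds hW)
  have h3 : (Limits.pullback.snd f (j ≫ π)) '' W = j ⁻¹' ((Limits.pullback.snd f π) '' (k '' W)) := by
    ext y
    constructor
    · rintro ⟨w, hw, rfl⟩
      refine ⟨k w, ⟨w, hw, rfl⟩, ?_⟩
      rw [← Scheme.Hom.comp_apply, h1.w, Scheme.Hom.comp_apply]
    · rintro ⟨_, ⟨w, hw, rfl⟩, hy⟩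
      refine ⟨w, hw, ?_⟩
      apply j.isOpenEmbedding.injective
      rw [← hy, ← Scheme.Hom.comp_apply, ← h1.w, Scheme.Hom.comp_apply]
  have h4 : (Limits.pullback.snd f π) (k x') = j ((Limits.pullback.snd f (j ≫ π)) x') := by
    rw [← Scheme.Hom.comp_apply, h1.w, Scheme.Hom.comp_apply]
  rw [h4] at h2
  change (Limits.pullback.snd f (j ≫ π)) '' W ∈ nhds ((Limits.pullback.snd f (j ≫ π)) x')
  rw [h3]
  exact j.continuous.continuousAt.preimage_mem_nhds h2

theorem isOpenAt_affine {X Y : Scheme.{u}} [CompactSpace Y] [QuasiSeparatedSpace Y] (f : X ⟶ Y)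
    (x : X)
    (H : ∀ (Y₁ : Scheme.{u}) (g : Y₁ ⟶ Y) [IsFinite g], ∀ x' : ↥(Limits.pullback f g),
      Limits.pullback.fst f g x' = x → IsOpenAt (Limits.pullback.snd f g) x')
    {A B : Type u} [CommRing A] [CommRing B] [Algebra A B] (v : Spec (.of A) ⟶ Y) [IsOpenImmersion v]
    [QuasiCompact v] (u : Spec (.of B) ⟶ X) [IsOpenImmersion u]
    (huv : u ≫ f = Spec.map (CommRingCat.ofHom (algebraMap A B)) ≫ v)
    (A₁ : Type u) [CommRing A₁] [Algebra A A₁] [Module.Finite A A₁]
    (P' : PrimeSpectrum (A₁ ⊗[A] B)) (hP' : u (PrimeSpectrum.comap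
      (Algebra.TensorProduct.includeRight (R := A) (A := A₁) (B := B)).toRingHom P') = x) :
    IsOpenAt (Spec.map (CommRingCat.ofHom (algebraMap A₁ (A₁ ⊗[A] B)))) P' := by
  have hfinite : IsFinite (Spec.map (CommRingCat.ofHom (algebraMap A A₁))) := by
    rw [IsFinite.SpecMap_iff]
    exact RingHom.finite_algebraMap.mpr inferInstance
  let t : Spec (.of A₁) ⟶ Y := Spec.map (CommRingCat.ofHom (algebraMap A A₁)) ≫ v
  have h1 := isOpenAt_of_quasiFinite f x H t
  have h2 := QSUnivOpen.isPullback_comp_mono (QSAffine.isPullback_tensor A A₁ B) v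
  rw [← huv] at h2
  have h3 := IsPullback.of_right' h2.flip (IsPullback.of_hasPullback f t).flip
  set k := (IsPullback.of_hasPullback f t).flip.lift
    (Spec.map (CommRingCat.ofHom (algebraMap A₁ (A₁ ⊗[A] B))))
    (Spec.map (CommRingCat.ofHom (Algebra.TensorProduct.includeRight (R := A) (A := A₁)
      (B := B)).toRingHom) ≫ u) (by rw [Category.assoc]; exact h2.flip.w) with hk
  have hko : IsOpenImmersion k := MorphismProperty.of_isPullback (P := @IsOpenImmersion) h3.flip
    inferInstance
  have h4 : k ≫ Limits.pullback.snd f t = Spec.map (CommRingCat.ofHom (algebraMap A₁ (A₁ ⊗[A] B))) :=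
    (IsPullback.of_hasPullback f t).flip.lift_fst _ _ _
  have h5 : k ≫ Limits.pullback.fst f t =
      Spec.map (CommRingCat.ofHom (Algebra.TensorProduct.includeRight (R := A) (A := A₁)
        (B := B)).toRingHom) ≫ u :=
    (IsPullback.of_hasPullback f t).flip.lift_snd _ _ _
  rw [← h4, Scheme.Hom.comp_base, TopCat.coe_comp]
  apply isOpenAt_comp
  · exact (isOpenMap_iff_forall_isOpenAt _).mp k.isOpenEmbedding.isOpenMap _
  · apply h1
    refine Eq.trans ?_ hP'
    exact congr($(h5) P')

/-- A morphism of locally Noetherian schemes which is open at `x`, maximal in its fibre. -/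
theorem ringKrullDim_stalk_le {X Y : Scheme.{u}} [IsLocallyNoetherian X] [IsLocallyNoetherian Y]
    (f : X ⟶ Y) (x : X)
    (hmax : ∀ z : X, z ⤳ x → f z = f x → z = x) (hopen : IsOpenAt f x) :
    ringKrullDim (Y.presheaf.stalk (f x)) ≤ ringKrullDim (X.presheaf.stalk x) := by
  have h2 := S2559.result f x (by
    intro z hz _
    have h3 : f.fiberι (f x) z ⤳ x := by
      have := (specializes_iff_mem_closure.mpr hz).map (f.fiberι (f x)).continuous
      rwa [Scheme.Hom.fiberι_asFiber] at this
    have h4 : f (f.fiberι (f x) z) = f x := by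
      have : f.fiberι (f x) z ∈ Set.range (f.fiberι (f x)) := ⟨z, rfl⟩
      rw [Scheme.Hom.range_fiberι] at this
      exact this
    have h5 := hmax _ h3 h4
    change IsOpenAt f (f.fiberι (f x) z)
    rw [h5]
    exact hopen)
  change _ = ringKrullDim (Y.presheaf.stalk (f x)) + _ at h2
  rw [h2]
  have h3 : (0 : WithBot ℕ∞) ≤
      ringKrullDim ((f.fiber (f x)).presheaf.stalk (f.asFiber x)) := ringKrullDim_nonneg_of_nontrivial
  exact le_add_of_nonneg_right h3

theorem ringKrullDim_stalk_Spec {R : Type u} [CommRing R] (P : PrimeSpectrum R) :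
    ringKrullDim ((Spec (CommRingCat.of R)).presheaf.stalk P) = P.asIdeal.height := by
  rw [← IsLocalization.AtPrime.ringKrullDim_eq_height P.asIdeal (Localization.AtPrime P.asIdeal)]
  exact ringKrullDim_eq_of_ringEquiv (Spec.stalkIso (CommRingCat.of R) P).commRingCatIsoToRingEquiv

/-- The algebraic form of `ringKrullDim_stalk_le`. -/
theorem height_le_of_isOpenAt {R S : Type u} [CommRing R] [CommRing S] [Algebra R S]
    [IsNoetherianRing R] [IsNoetherianRing S] (P : PrimeSpectrum S)
    (hmax : ∀ Q : Ideal S, Q.IsPrime → Q ≤ P.asIdeal → Q.under R = P.asIdeal.under R →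
      Q = P.asIdeal)
    (hopen : IsOpenAt (Spec.map (CommRingCat.ofHom (algebraMap R S))) P) :
    (P.asIdeal.under R).height ≤ P.asIdeal.height := by
  have h1 := ringKrullDim_stalk_le (Spec.map (CommRingCat.ofHom (algebraMap R S))) P (by
    intro z hz hfz
    apply PrimeSpectrum.ext
    apply hmax z.asIdeal z.2
    · exact (PrimeSpectrum.le_iff_specializes _ _).mpr hz
    · exact congrArg PrimeSpectrum.asIdeal hfz) hopen
  have h2 : (Spec.map (CommRingCat.ofHom (algebraMap R S))) P = PrimeSpectrum.comap (algebraMap R S) P := rfl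
  rw [h2, ringKrullDim_stalk_Spec, ringKrullDim_stalk_Spec] at h1
  exact_mod_cast h1

end K125.FiniteBC
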