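import Groth.Agent.EGA43.K125.FiniteBC

/-!
# Universal openness at a maximal point of a fibre, tested on finite base changes (II)
-/

set_option autoImplicit false
universe u
namespace K125.FiniteBC2

open TensorProduct CategoryTheory AlgebraicGeometry EGA43 Groth.Agent.Ega43.UnivOpenAt
  Groth.Agent.Ega43 Groth.Agent CategoryTheory.Limits TopologicalSpace

/-- A morphism locally of finite type which is universally open at all points of a neighbourhood `O`
of `x` closed in the fibre of `x` is universally open at `x`. -/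
theorem isUnivOpenAt_of_closed_in_fibre {X Y : Scheme.{u}} (f : X ⟶ Y) [LocallyOfFiniteType f]
    (x : X) (O : X.Opens) (hxO : x ∈ O)
    (h : ∀ w : X, w ∈ O → f w = f x → (∀ x' : X, w ⤳ x' → f x' = f w → x' = w) → IsUnivOpenAt f w) :
    IsUnivOpenAt f x := by
  intro T t p hp
  apply isOpenAt_of_forall_isOpen
  intro U hU hpU
  have hb := isPullback_fiberToSpecResidueField_of_isPullback (IsPullback.of_hasPullback f t)
    (pullback.snd f t p)
  set s := pullback.snd f t p with hs
  have hts : t s = f x := by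
    rw [hs, ← Scheme.Hom.comp_apply, ← pullback.condition, Scheme.Hom.comp_apply]
    exact congrArg f hp
  let b : (pullback.snd f t).fiber s ⟶ f.fiber (t s) :=
    pullback.map _ _ _ _ (pullback.fst f t) (Spec.map (t.residueFieldMap s)) t
      (IsPullback.of_hasPullback f t).w.symm (by simp)
  have hbι : b ≫ f.fiberι (t s) = (pullback.snd f t).fiberι s ≫ pullback.fst f t :=
    pullback.lift_fst _ _ _
  have hbι' : ∀ w, f.fiberι (t s) (b w) = pullback.fst f t ((pullback.snd f t).fiberι s w) := by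
    intro w
    rw [← Scheme.Hom.comp_apply, hbι, Scheme.Hom.comp_apply]
  have hbo : UniversallyOpen b := MorphismProperty.of_isPullback (P := @UniversallyOpen) hb.flip
    (inferInstance : UniversallyOpen (Spec.map (t.residueFieldMap s)))
  let S : Set ↥((pullback.snd f t).fiber s) := ((pullback.snd f t).fiberι s) ⁻¹'
    (U ∩ (pullback.fst f t) ⁻¹' (O : Set X))
  have hS : IsOpen S := (hU.inter (O.2.preimage (pullback.fst f t).continuous)).preimage
    ((pullback.snd f t).fiberι s).continuous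
  have hVo : IsOpen (b '' S) := b.isOpenMap _ hS
  have hp' : ((pullback.snd f t).fiberι s) ((pullback.snd f t).asFiber p) = p :=
    (pullback.snd f t).fiberι_asFiber p
  have hne : (b '' S).Nonempty := by
    refine ⟨b ((pullback.snd f t).asFiber p), (pullback.snd f t).asFiber p, ?_, rfl⟩
    rw [Set.mem_preimage, hp']
    refine ⟨hpU, ?_⟩
    change pullback.fst f t p ∈ O
    have : pullback.fst f t p = x := hp
    rw [this]
    exact hxO
  obtain ⟨z, hzV, hz⟩ := nonempty_inter_closedPoints (X := f.fiber (t s)) hne hVo.isLocallyClosed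
  obtain ⟨w, hw, rfl⟩ := hzV
  rw [mem_closedPoints_iff] at hz
  have hrange : ∀ v : f.fiber (t s), f (f.fiberι (t s) v) = t s := by
    intro v
    have : f.fiberι (t s) v ∈ Set.range (f.fiberι (t s)) := ⟨v, rfl⟩
    rw [Scheme.Hom.range_fiberι] at this
    exact this
  have hx' : IsUnivOpenAt f (f.fiberι (t s) (b w)) := by
    apply h
    · rw [hbι']
      exact hw.2
    · rw [hrange, hts]
    intro x'' hx'' hfx''
    rw [hrange] at hfx''
    have : x'' ∈ Set.range (f.fiberι (t s)) := by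
      rw [Scheme.Hom.range_fiberι]; exact hfx''
    obtain ⟨z'', rfl⟩ := this
    have h1 : b w ⤳ z'' := (f.fiberι (t s)).isEmbedding.specializes_iff.mp hx''
    have h2 : z'' ∈ ({b w} : Set (f.fiber (t s))) := h1.mem_closed hz rfl
    rw [Set.mem_singleton_iff.mp h2]
  have h3 := isOpenAt_of_isPullback hx' (IsPullback.of_hasPullback f t)
    ((pullback.snd f t).fiberι s w) (hbι' w).symm
  have h4 := h3 U (hU.mem_nhds hw.1)
  have h5 : (pullback.snd f t) ((pullback.snd f t).fiberι s w) = s := by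
    have : (pullback.snd f t).fiberι s w ∈ Set.range ((pullback.snd f t).fiberι s) := ⟨w, rfl⟩
    rw [Scheme.Hom.range_fiberι] at this
    exact this
  rw [h5] at h4
  exact h4

/-- A maximal point of its fibre has an affine neighbourhood in which the fibre is irreducible. -/
theorem exists_irreducible_fibre_nhd {X Y : Scheme.{u}} (f : X ⟶ Y) [LocallyOfFiniteType f] (x : X)
    (hmax : ∀ z : X, z ⤳ x → f z = f x → z = x) :
    ∃ (V : Y.Opens) (U : X.Opens), IsAffineOpen V ∧ IsAffineOpen U ∧ U ≤ f ⁻¹ᵁ V ∧ x ∈ U ∧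
      ∀ w ∈ U, f w = f x → x ⤳ w := by
  obtain ⟨W, V, hW, hV, e, hx⟩ := CycB.RelDim.exists_affine_nhds f x
  have hfin := K125.LocalDims.finite_maximal_fiber f W hW V hV e (f x)
  set M := {z : X | z ∈ V ∧ f z = f x ∧ ∀ z' : X, z' ⤳ z → f z' = f z → z' = z} with hM
  let C : Set X := ⋃ z ∈ M \ {x}, closure {z}
  have hC : IsClosed C := (hfin.subset Set.sdiff_subset).isClosed_biUnion fun z _ => isClosed_closure
  have hxC : x ∉ C := by
    intro h
    obtain ⟨z, hz, hzx⟩ := Set.mem_iUnion₂.mp h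
    apply hz.2
    exact (hmax z (specializes_iff_mem_closure.mpr hzx) hz.1.2.1)
  obtain ⟨U, hU, hxU, hle⟩ := exists_isAffineOpen_mem_and_subset
    (x := x) (U := (V ⊓ ⟨Cᶜ, hC.isOpen_compl⟩ : X.Opens)) ⟨hx, hxC⟩
  refine ⟨W, U, hW, hU, fun z hz => e (hle hz).1, hxU, ?_⟩
  intro w hw hfw
  obtain ⟨z, hz, hfz, hzmax⟩ := OpenUniv.exists_maximal_in_fibre f w
  have hzM : z ∈ M := ⟨hz.mem_open V.2 (hle hw).1, hfz.trans hfw, hzmax⟩
  by_cases hzx : z = x
  · rw [← hzx]
    exact hz
  · exfalso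
    apply (hle hw).2
    exact Set.mem_iUnion₂.mpr ⟨z, ⟨hzM, hzx⟩, specializes_iff_mem_closure.mp hz⟩

/-- Incomparability for `B ⟶ A₁ ⊗ B`, `A₁` finite over `A`. -/
theorem eq_of_comap_includeRight {A A₁ B : Type u} [CommRing A] [CommRing A₁] [CommRing B]
    [Algebra A A₁] [Algebra A B] [Module.Finite A A₁] (Q P' : Ideal (A₁ ⊗[A] B)) (hQ : Q.IsPrime)
    (hle : Q ≤ P')
    (h : Q.comap (Algebra.TensorProduct.includeRight (R := A) (A := A₁) (B := B)).toRingHom =
      P'.comap (Algebra.TensorProduct.includeRight (R := A) (A := A₁) (B := B)).toRingHom) :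
    Q = P' := by
  let e : A₁ ⊗[A] B ≃ₐ[A] B ⊗[A] A₁ := Algebra.TensorProduct.comm A A₁ B
  let ε : B ⊗[A] A₁ →+* A₁ ⊗[A] B := e.symm.toRingEquiv.toRingHom
  have hε : Function.Surjective ε := e.symm.surjective
  have hεb : ∀ b : B, ε (algebraMap B (B ⊗[A] A₁) b) = 1 ⊗ₜ b := by
    intro b
    change e.symm (b ⊗ₜ 1) = _
    rw [AlgEquiv.symm_apply_eq]
    simp [e]
  by_contra hne
  have hlt : Q.comap ε < P'.comap ε := by
    refine lt_of_le_of_ne (Ideal.comap_mono hle) fun heq => hne ?_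
    exact Ideal.comap_injective_of_surjective ε hε heq
  have hp : (Q.comap ε).IsPrime := Ideal.comap_isPrime _ _
  have h1 := Ideal.IsIntegral.comap_lt_comap (R := B) hlt
  apply h1.ne
  have h2 : ∀ Θ : Ideal (A₁ ⊗[A] B), (Θ.comap ε).comap (algebraMap B (B ⊗[A] A₁)) =
      Θ.comap (Algebra.TensorProduct.includeRight (R := A) (A := A₁) (B := B)).toRingHom := by
    intro Θ
    ext b
    change ε (algebraMap B (B ⊗[A] A₁) b) ∈ Θ ↔ (1 : A₁) ⊗ₜ[A] b ∈ Θ
    rw [hεb]
  rw [h2, h2, h]

/-- Universal openness at a maximal point of a fibre can be tested on finite base changes, over a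
Noetherian base. -/
theorem isUnivOpenAt_of_finite {X Y : Scheme.{u}} [IsNoetherian Y] (f : X ⟶ Y)
    [LocallyOfFiniteType f] (x : X) (hmax : ∀ z : X, z ⤳ x → f z = f x → z = x)
    (H : ∀ (Y₁ : Scheme.{u}) (g : Y₁ ⟶ Y) [IsFinite g], ∀ x' : ↥(pullback f g),
      pullback.fst f g x' = x → IsOpenAt (pullback.snd f g) x') : IsUnivOpenAt f x := by
  obtain ⟨V, U, hV, hU, e, hxU, hirr⟩ := exists_irreducible_fibre_nhd f x hmax
  let A := Γ(Y, V)
  let B := Γ(X, U)
  let φ : A →+* B := (f.appLE V U e).hom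
  let _ : Algebra A B := φ.toAlgebra
  have hft : Algebra.FiniteType A B := f.finiteType_appLE hV hU e
  have hN : IsNoetherianRing A := IsLocallyNoetherian.component_noetherian ⟨V, hV⟩
  have huv : hU.fromSpec ≫ f = Spec.map (CommRingCat.ofHom (algebraMap A B)) ≫ hV.fromSpec :=
    (hV.SpecMap_appLE_fromSpec f hU e).symm
  have hcomm : ∀ Q : PrimeSpectrum B,
      f (hU.fromSpec Q) = hV.fromSpec (PrimeSpectrum.comap (algebraMap A B) Q) := fun Q =>
    congr($(huv) Q)
  have hfib : ∀ Q Q' : PrimeSpectrum B, Q.asIdeal.under A = Q'.asIdeal.under A ↔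
      f (hU.fromSpec Q) = f (hU.fromSpec Q') := by
    intro Q Q'
    rw [hcomm, hcomm]
    constructor
    · intro h
      exact congrArg hV.fromSpec (PrimeSpectrum.ext h)
    · intro h
      exact congrArg PrimeSpectrum.asIdeal (hV.fromSpec.isOpenEmbedding.injective h)
  have hspec : ∀ Q Q' : PrimeSpectrum B, Q.asIdeal ≤ Q'.asIdeal ↔
      hU.fromSpec Q ⤳ hU.fromSpec Q' := by
    intro Q Q'
    exact (PrimeSpectrum.le_iff_specializes Q Q').trans
      hU.fromSpec.isOpenEmbedding.isInducing.specializes_iff.symm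
  obtain ⟨P₀, hP₀⟩ : x ∈ Set.range hU.fromSpec := by
    rw [hU.range_fromSpec]; exact hxU
  apply isUnivOpenAt_of_closed_in_fibre f x U hxU
  intro w hw hfw hclosed
  obtain ⟨P, hP⟩ : w ∈ Set.range hU.fromSpec := by
    rw [hU.range_fromSpec]; exact hw
  have hUmem : ∀ Q : PrimeSpectrum B, hU.fromSpec Q ∈ U := by
    intro Q
    have : hU.fromSpec Q ∈ Set.range hU.fromSpec := ⟨Q, rfl⟩
    rwa [hU.range_fromSpec] at this
  have h0 : (PrimeSpectrum.asIdeal P₀).under A = (PrimeSpectrum.asIdeal P).under A := by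
    refine (hfib P₀ P).mpr ?_
    rw [hP₀, hP, hfw]
  have hle : ∀ Q : Ideal B, Q.IsPrime → Q.under A = (PrimeSpectrum.asIdeal P).under A →
      PrimeSpectrum.asIdeal P₀ ≤ Q := by
    intro Q hQ hQu
    have h1 := (hfib ⟨Q, hQ⟩ P).mp hQu
    refine (hspec P₀ ⟨Q, hQ⟩).mpr ?_
    rw [hP₀]
    apply hirr _ (hUmem _)
    rw [h1, hP, hfw]
  have hmaxP : ∀ P' : Ideal B, P'.IsPrime → (PrimeSpectrum.asIdeal P) ≤ P' →
      P'.under A = (PrimeSpectrum.asIdeal P).under A → P' = PrimeSpectrum.asIdeal P := by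
    intro P' hP' hle' hun
    have h1 := (hspec P ⟨P', hP'⟩).mp hle'
    have h2 := (hfib ⟨P', hP'⟩ P).mp hun
    rw [hP] at h1 h2
    have h3 := hclosed _ h1 h2
    rw [← hP] at h3
    exact congrArg PrimeSpectrum.asIdeal (hU.fromSpec.isOpenEmbedding.injective h3)
  have key := K125.QSAffine.isUnivOpenAt_of_isNoetherianRing (A := A) (B := B) P₀ P h0 hle hmaxP (by
    intro A₁ _ _ _ P' hP' hP'P₀
    have hA₁N : IsNoetherianRing A₁ := IsNoetherianRing.of_finite A A₁
    have hN2 : IsNoetherianRing (A₁ ⊗[A] B) := Algebra.FiniteType.isNoetherianRing A₁ _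
    refine K125.FiniteBC.height_le_of_isOpenAt ⟨P', hP'⟩ ?_ ?_
    · intro Q hQ hQP' hQu
      let ι : B →+* A₁ ⊗[A] B :=
        (Algebra.TensorProduct.includeRight (R := A) (A := A₁) (B := B)).toRingHom
      have e1 : ∀ Θ : Ideal (A₁ ⊗[A] B), (Θ.comap ι).under A = (Θ.under A₁).comap (algebraMap A A₁) := by
        intro Θ
        ext a
        change (1 : A₁) ⊗ₜ[A] (algebraMap A B a) ∈ Θ ↔
          (algebraMap A A₁ a) ⊗ₜ[A] (1 : B) ∈ Θ
        rw [Algebra.algebraMap_eq_smul_one (R := A) (A := B), ← TensorProduct.smul_tmul,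
          ← Algebra.algebraMap_eq_smul_one]
      have h1 : PrimeSpectrum.asIdeal P₀ ≤ Q.comap ι := by
        apply hle _ inferInstance
        rw [← h0, ← hP'P₀, e1]
        change _ = (Ideal.comap ι P').under A
        rw [e1]
        exact congrArg _ hQu
      have h2 : Q.comap ι = P'.comap ι := by
        apply le_antisymm (Ideal.comap_mono hQP')
        change Ideal.comap ι P' ≤ _
        rw [show Ideal.comap ι P' = PrimeSpectrum.asIdeal P₀ from hP'P₀]
        exact h1
      exact eq_of_comap_includeRight Q P' hQ hQP' h2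
    · refine K125.FiniteBC.isOpenAt_affine f x H hV.fromSpec hU.fromSpec huv A₁ ⟨P', hP'⟩ ?_
      rw [← hP₀]
      congr 1
      exact PrimeSpectrum.ext hP'P₀)
  have h2 := QSUnivOpen.isUnivOpenAt_comp (Spec.map (CommRingCat.ofHom (algebraMap A B)))
    hV.fromSpec P key
  rw [← huv] at h2
  have h3 := isUnivOpenAt_of_comp _ _ _ h2
  rwa [hP] at h3

end K125.FiniteBC2
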