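import Groth.Agent.EGA43.K125.ValDim
import Groth.Agent.Ega4fib.H174.EquidimCrit
import Groth.Agent.Ega43.OpenUniv
import Mathlib.AlgebraicGeometry.Morphisms.QuasiCompact

/-!
# Dimensions of `U ∩ f ⁻¹ {y}` through transcendence degrees
-/

set_option autoImplicit false
universe u

open CategoryTheory AlgebraicGeometry TopologicalSpace Topology

namespace K125.LocalDims

open Groth.Agent.CycB.RelDim Groth.Agent Groth.Agent.Ega4fib.H174.Equidim

variable {X Y : Scheme.{u}} (f : X ⟶ Y)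

theorem rtd_preimmersion_comp {W : Scheme.{u}} (j : W ⟶ X) [IsPreimmersion j] (w : W) :
    rtd (j ≫ f) w = rtd f (j w) := by
  rw [rtd_comp, rtd_eq_zero_of_isPreimmersion j, add_zero]

/-- The fibre of `U → Y` is homeomorphic to `U ∩ f ⁻¹ {y}`. -/
theorem topologicalKrullDim_opens_fiber (U : X.Opens) (y : Y) :
    topologicalKrullDim ↥((U : Set X) ∩ f ⁻¹' {y}) = topologicalKrullDim ↥((U.ι ≫ f).fiber y) := by
  let j : ↥((U.ι ≫ f).fiber y) → X := fun t => U.ι ((U.ι ≫ f).fiberι y t)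
  have hj : IsEmbedding j :=
    (U.ι.isOpenEmbedding.isEmbedding).comp ((U.ι ≫ f).fiberι y).isEmbedding
  have hr : Set.range j = (U : Set X) ∩ f ⁻¹' {y} := by
    ext x
    constructor
    · rintro ⟨t, rfl⟩
      refine ⟨((U.ι ≫ f).fiberι y t).2, ?_⟩
      exact K125.ValDim.apply_fiberι (U.ι ≫ f) y t
    · rintro ⟨hxU, hx⟩
      have h1 : (⟨x, hxU⟩ : U) ∈ Set.range ((U.ι ≫ f).fiberι y) := by
        rw [Scheme.Hom.range_fiberι]
        exact hx
      obtain ⟨t, ht⟩ := h1
      exact ⟨t, congrArg U.ι ht⟩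
  rw [← hr]
  exact (IsHomeomorph.topologicalKrullDim_eq _ hj.toHomeomorph.isHomeomorph).symm

variable [LocallyOfFiniteType f]

theorem exists_rtd_le_dim_opens (U : X.Opens) (y : Y) (w : X) (hw : w ∈ U) (hy : f w = y) :
    ∃ n : ℕ, rtd f w = n ∧
      (n : WithBot ℕ∞) ≤ topologicalKrullDim ↥((U : Set X) ∩ f ⁻¹' {y}) := by
  let w' : (U : Scheme.{u}) := ⟨w, hw⟩
  obtain ⟨n, hn, hn'⟩ := K125.ValDim.exists_rtd_le_topologicalKrullDim (U.ι ≫ f) w' y hy
  rw [rtd_preimmersion_comp] at hn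
  rw [topologicalKrullDim_opens_fiber]
  exact ⟨n, hn, hn'⟩

theorem exists_le_rtd_of_le_dim_opens (U : X.Opens) (y : Y) (d : ℕ)
    (h : (d : WithBot ℕ∞) ≤ topologicalKrullDim ↥((U : Set X) ∩ f ⁻¹' {y})) :
    ∃ w : X, w ∈ U ∧ f w = y ∧ (d : Cardinal.{u}) ≤ rtd f w := by
  by_contra hcon
  push Not at hcon
  have hlt : ∀ w : X, w ∈ U → f w = y → ∀ n : ℕ, rtd f w = n → n + 1 ≤ d := by
    intro w hw hy n hn
    have := hcon w hw hy
    rw [hn] at this
    exact_mod_cast this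
  rw [topologicalKrullDim_opens_fiber] at h
  rcases d with _ | d
  · have h1 := K125.ValDim.topologicalKrullDim_fiber_le (U.ι ≫ f) y ⊥ (by
      intro w hw n hn
      rw [rtd_preimmersion_comp] at hn
      have := hlt _ w.2 hw n hn
      omega)
    have h2 := h.trans h1
    rw [le_bot_iff] at h2
    exact WithBot.coe_ne_bot h2
  · have h1 := K125.ValDim.topologicalKrullDim_fiber_le (U.ι ≫ f) y d (by
      intro w hw n hn
      rw [rtd_preimmersion_comp] at hn
      have := hlt _ w.2 hw n hn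
      exact_mod_cast (by omega : n ≤ d))
    have h2 : ((d + 1 : ℕ) : WithBot ℕ∞) ≤ d := h.trans h1
    have h3 : d + 1 ≤ d := by exact_mod_cast h2
    omega

/-- In an affine open lying over an affine open, a fibre has finitely many maximal points. -/
theorem finite_maximal_fiber (W : Y.Opens) (hW : IsAffineOpen W) (V : X.Opens)
    (hV : IsAffineOpen V) (e : V ≤ f ⁻¹ᵁ W) (y : Y) :
    {z : X | z ∈ V ∧ f z = y ∧ ∀ z' : X, z' ⤳ z → f z' = f z → z' = z}.Finite := by
  by_cases hy : y ∈ W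
  swap
  · convert Set.finite_empty
    ext z
    simp only [Set.mem_ofPred_eq, Set.mem_empty_iff_false, iff_false, not_and]
    intro hz hzy
    exact absurd (hzy ▸ e hz) hy
  let g : (V : Scheme.{u}) ⟶ W := f.resLE W V e
  have hg : g ≫ W.ι = V.ι ≫ f := f.resLE_comp_ι e
  have : IsAffine (V : Scheme.{u}) := hV
  have : IsAffine (W : Scheme.{u}) := hW
  have hft : LocallyOfFiniteType g := by
    have : LocallyOfFiniteType (g ≫ W.ι) := by rw [hg]; infer_instance
    exact locallyOfFiniteType_of_comp g W.ι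
  have hqc : QuasiCompact g := inferInstance
  have hgv : ∀ v : (V : Scheme.{u}), W.ι (g v) = f (V.ι v) := by
    intro v
    rw [← Scheme.Hom.comp_apply, hg, Scheme.Hom.comp_apply]
  let y' : (W : Scheme.{u}) := ⟨y, hy⟩
  have : LocallyOfFiniteType (g.fiberToSpecResidueField y') :=
    inferInstanceAs (LocallyOfFiniteType (Limits.pullback.snd g _))
  have : IsLocallyNoetherian (g.fiber y') :=
    LocallyOfFiniteType.isLocallyNoetherian (g.fiberToSpecResidueField y')
  have : CompactSpace (g.fiber y') := inferInstance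
  have : IsNoetherian (g.fiber y') := {}
  have hfin : (irreducibleComponents ↥(g.fiber y')).Finite :=
    NoetherianSpace.finite_irreducibleComponents
  let S : Set ↥(g.fiber y') := {t | ∀ t' : ↥(g.fiber y'), t' ⤳ t → t' = t}
  have hS : S.Finite := by
    refine Set.Finite.of_finite_image (f := fun t => closure {t}) (hfin.subset ?_) ?_
    · rintro _ ⟨t, ht, rfl⟩
      exact mem_irreducibleComponents_iff.mpr ⟨t, ht, rfl⟩
    · intro t _ t' _ htt'
      exact ((inseparable_iff_closure_eq.mpr htt').eq)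
  refine (hS.image (fun t => V.ι (g.fiberι y' t))).subset ?_
  rintro z ⟨hzV, hzy, hmax⟩
  have h1 : g (⟨z, hzV⟩ : (V : Scheme.{u})) = y' := by
    apply W.ι.isOpenEmbedding.injective
    exact (hgv _).trans hzy
  obtain ⟨t, ht⟩ := exists_fiberι_eq g h1
  refine ⟨t, ?_, congrArg V.ι ht⟩
  intro t' ht'
  apply (g.fiberι y').isEmbedding.injective
  apply V.ι.isOpenEmbedding.injective
  have h2 : V.ι (g.fiberι y' t) = z := congrArg V.ι ht
  rw [h2]
  apply hmax
  · have := (ht'.map (g.fiberι y').continuous).map V.ι.continuous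
    rwa [h2] at this
  · rw [← hgv, K125.ValDim.apply_fiberι, hzy]
    rfl

/-- If `x` is in the closure of the set of points of `f ⁻¹ {η}` with `rtd ≥ d`, then some
generization `ζ` of `x` over `η` has `rtd f ζ ≥ d`. -/
theorem exists_generization (x : X) (η : Y) (d : ℕ)
    (h : ∀ U : X.Opens, x ∈ U → ∃ w ∈ U, f w = η ∧ (d : Cardinal.{u}) ≤ rtd f w) :
    ∃ ζ : X, ζ ⤳ x ∧ f ζ = η ∧ (d : Cardinal.{u}) ≤ rtd f ζ := by
  by_contra hcon
  push Not at hcon
  obtain ⟨W, V, hW, hV, e, hx⟩ := exists_affine_nhds f x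
  have hfin := finite_maximal_fiber f W hW V hV e η
  set M := {z : X | z ∈ V ∧ f z = η ∧ ∀ z' : X, z' ⤳ z → f z' = f z → z' = z} with hM
  let M' : Set X := {z ∈ M | (d : Cardinal.{u}) ≤ rtd f z}
  have hfin' : M'.Finite := hfin.subset fun z hz => hz.1
  have hcl : IsClosed (⋃ z ∈ M', closure ({z} : Set X)) :=
    hfin'.isClosed_biUnion fun z _ => isClosed_closure
  let U : X.Opens := V ⊓ ⟨_, hcl.isOpen_compl⟩
  have hxU : x ∈ U := by
    refine ⟨hx, ?_⟩
    intro hx'
    simp only [Set.mem_iUnion] at hx'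
    obtain ⟨z, hz, hzx⟩ := hx'
    exact absurd hz.2 (not_le.mpr (hcon z (specializes_iff_mem_closure.mpr hzx) hz.1.2.1))
  obtain ⟨w, hwU, hwη, hwd⟩ := h U hxU
  obtain ⟨w₁, hw₁, hfw₁, hmax⟩ := Ega43.OpenUniv.exists_maximal_in_fibre f w
  have hw₁U : w₁ ∈ U := hw₁.mem_open U.2 hwU
  have hd : (d : Cardinal.{u}) ≤ rtd f w₁ :=
    hwd.trans (VarietyA.LocDim.rtd_le_of_specializes f hw₁ hfw₁)
  apply hw₁U.2
  simp only [Set.mem_iUnion]
  exact ⟨w₁, ⟨⟨hw₁U.1, hfw₁.trans hwη, hmax⟩, hd⟩, subset_closure rfl⟩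

end K125.LocalDims
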