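import Groth.Agent.Ega4C.GeomUnibranchTensor
import Groth.Agent.Ega43.NormalOpen
import Groth.Agent.Flat2G.EtUnibranch
import Mathlib.RingTheory.TensorProduct.MvPolynomial
import Mathlib.RingTheory.MvPolynomial.Localization
import Mathlib.RingTheory.Localization.LocalizationLocalization

/-!
# Polynomial rings over geometrically unibranch local rings

`isGeomUnibranch_mvPolynomial`: if `A_p` is geometrically unibranch and `Q` is a prime of
`A[T_1, …, T_n]` over `p`, then `A[T_1, …, T_n]_Q` is geometrically unibranch.
-/

set_option autoImplicit false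
universe u v

open IsLocalRing TensorProduct

namespace K125.PolyUnibranch

open Groth.Agent.Ega4C.GeomUnibranch Groth.Agent.Ega4C.GeomUnibranchTensor

theorem isIntegrallyClosed_mvPolynomial (R : Type u) [CommRing R] [IsDomain R]
    [IsIntegrallyClosed R] (σ : Type v) [Finite σ] : IsIntegrallyClosed (MvPolynomial σ R) := by
  obtain ⟨n, ⟨e⟩⟩ := Finite.exists_equiv_fin σ
  have := Groth.Agent.Ega43.NormalOpen.isIntegrallyClosed_mvPolynomial R n
  exact IsIntegrallyClosed.of_equiv (MvPolynomial.renameEquiv R e.symm).toRingEquiv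

theorem isNormalRing_of_isIntegrallyClosed (B : Type u) [CommRing B] [IsDomain B]
    [IsIntegrallyClosed B] : EGA4.IsNormalRing B := by
  intro p hp
  exact ⟨inferInstance, isIntegrallyClosed_of_isLocalization
    (Localization.AtPrime p) p.primeCompl p.primeCompl_le_nonZeroDivisors⟩

theorem isNormalRing_mvPolynomial (B : Type u) [CommRing B] [IsDomain B]
    [IsIntegrallyClosed B] (σ : Type u) [Finite σ] : EGA4.IsNormalRing (MvPolynomial σ B) := by
  have := isIntegrallyClosed_mvPolynomial B σ
  exact isNormalRing_of_isIntegrallyClosed _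

theorem isGeomUnibranch_mvPolynomial_local (R : Type u) [CommRing R] [IsLocalRing R]
    (h : CAlg2.IsGeomUnibranch R) (σ : Type u) [Finite σ] (Q : Ideal (MvPolynomial σ R)) [Q.IsPrime]
    (hQ : Q.comap (algebraMap R (MvPolynomial σ R)) = maximalIdeal R) :
    CAlg2.IsGeomUnibranch (Localization.AtPrime Q) := by
  obtain ⟨hdom, huniq⟩ := (isGeomUnibranch_iff R).mp h
  let : Algebra R (CAlg2.normRed R) := (toNormRed R).toAlgebra
  let g : R →ₐ[R] CAlg2.normRed R := Algebra.ofId R _
  have hclosed : IsIntegrallyClosed (CAlg2.normRed R) :=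
    IsIntegrallyClosed.of_isIntegrallyClosedIn (CAlg2.normRed R) (FractionRing (CAlg2.red R))
  have hN : EGA4.IsNormalRing (CAlg2.normRed R ⊗[R] MvPolynomial σ R) := by
    have h2 := isNormalRing_mvPolynomial (CAlg2.normRed R) σ
    exact isNormalRing_of_ringEquiv
      (MvPolynomial.algebraTensorAlgEquiv R (CAlg2.normRed R)).symm.toRingEquiv h2
  let e : R ⊗[R] MvPolynomial σ R ≃ₐ[R] MvPolynomial σ R := MvPolynomial.algebraTensorAlgEquiv R R
  let q : Ideal (R ⊗[R] MvPolynomial σ R) := Q.comap e
  have hq : q.comap (algebraMap R (R ⊗[R] MvPolynomial σ R)) = maximalIdeal R := by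
    rw [← hQ]
    change (Q.comap (e : R ⊗[R] MvPolynomial σ R →+* MvPolynomial σ R)).comap _ = _
    rw [Ideal.comap_comap]
    congr 1
    ext a
    exact congrArg _ (e.commutes a)
  have key := isGeomUnibranch_tensor (A' := MvPolynomial σ R) g (toNormRed_isIntegral R)
    (ker_toNormRed R).le (exists_toNormRed_mul_eq R) hN (maximalIdeal R) huniq q hq
  exact Groth.Agent.Flat2G.EtUnibranch.isGeomUnibranch_of_ringEquiv
    (Localization.localRingEquiv (I := q) Q e.toRingEquiv rfl) key.1

attribute [local instance] MvPolynomial.algebraMvPolynomial in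
theorem isGeomUnibranch_mvPolynomial (A : Type u) [CommRing A] (p : Ideal A) [p.IsPrime]
    (h : CAlg2.IsGeomUnibranch (Localization.AtPrime p)) (σ : Type u) [Finite σ]
    (Q : Ideal (MvPolynomial σ A)) [Q.IsPrime]
    (hQ : Q.comap (algebraMap A (MvPolynomial σ A)) = p) :
    CAlg2.IsGeomUnibranch (Localization.AtPrime Q) := by
  let R := Localization.AtPrime p
  let S : Type u := MvPolynomial σ R
  let M : Submonoid (MvPolynomial σ A) := p.primeCompl.map (MvPolynomial.C (σ := σ))
  have hM : IsLocalization M S := MvPolynomial.isLocalization (σ := σ) p.primeCompl R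
  have hdisj : Disjoint (M : Set (MvPolynomial σ A)) Q := by
    rw [Set.disjoint_left]
    rintro _ ⟨a, ha, rfl⟩ haQ
    apply ha
    rw [← hQ]
    exact haQ
  let Q' : Ideal S := Q.map (algebraMap (MvPolynomial σ A) S)
  have hQ'p : Q'.IsPrime := IsLocalization.isPrime_of_isPrime_disjoint M S Q inferInstance hdisj
  have hQ'c : Q'.comap (algebraMap (MvPolynomial σ A) S) = Q :=
    IsLocalization.under_map_of_isPrime_disjoint M S inferInstance hdisj
  have hQ'm : Q'.comap (algebraMap R S) = maximalIdeal R := by
    have h1 : (Q'.comap (algebraMap R S)).IsPrime := Ideal.IsPrime.comap _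
    have h2 : (Q'.comap (algebraMap R S)).comap (algebraMap A R) = p := by
      rw [Ideal.comap_comap, ← IsScalarTower.algebraMap_eq A R S,
        IsScalarTower.algebraMap_eq A (MvPolynomial σ A) S, ← Ideal.comap_comap, hQ'c, hQ]
    have h3 : (maximalIdeal R).comap (algebraMap A R) = p := IsLocalization.AtPrime.under_maximalIdeal R p
    have h4 := IsLocalization.map_under p.primeCompl R (Q'.comap (algebraMap R S))
    have h5 := IsLocalization.map_under p.primeCompl R (maximalIdeal R)
    rw [← h4, ← h5]
    exact congrArg (Ideal.map (algebraMap A R)) (h2.trans h3.symm)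
  have key := isGeomUnibranch_mvPolynomial_local R h σ Q' hQ'm
  have hloc : IsLocalization.AtPrime (Localization.AtPrime Q')
      (Q'.comap (algebraMap (MvPolynomial σ A) S)) :=
    IsLocalization.isLocalization_isLocalization_atPrime_isLocalization M _ Q'
  have hloc' : IsLocalization Q.primeCompl (Localization.AtPrime Q') := by
    have : (Q'.comap (algebraMap (MvPolynomial σ A) S)).primeCompl = Q.primeCompl := by
      ext a
      change a ∉ Q'.comap _ ↔ a ∉ Q
      rw [hQ'c]
    rw [← this]
    exact hloc
  exact Groth.Agent.Flat2G.EtUnibranch.isGeomUnibranch_of_ringEquiv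
    (IsLocalization.algEquiv Q.primeCompl (Localization.AtPrime Q')
      (Localization.AtPrime Q)).toRingEquiv key

end K125.PolyUnibranch
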