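import Groth.Agent.EGA43.K125.QSAway
import Groth.Agent.Ega43.QSAffine

/-!
# Universal openness at a closed point of an irreducible fibre, from finite base changes

Variant of `Groth.Agent.Ega43.QSAffine`: the openness hypothesis is replaced by an inequality of
heights at the primes over the generic point `P₀` of the fibre.
-/

set_option autoImplicit false
universe u
namespace K125.QSAffine

open TensorProduct CategoryTheory AlgebraicGeometry EGA43 Groth.Agent.Ega43.UnivOpenAt
open Groth.Agent.Ega43.QSAffine (isUnivOpenAt_of_cover isPullback_tensor)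
open Groth.Agent.Ega43.QSExists (fh_ne_top)

/-- Primes of `A₁ ⊗[A₀] (A₀ ⊗[A] B)` and of `A₁ ⊗[A] B`. -/
theorem exists_prime_cancel {A A₀ A₁ B : Type u} [CommRing A] [CommRing A₀] [CommRing A₁]
    [CommRing B] [Algebra A A₀] [Algebra A₀ A₁] [Algebra A A₁] [IsScalarTower A A₀ A₁] [Algebra A B]
    (P₁ : Ideal (A₁ ⊗[A₀] (A₀ ⊗[A] B))) [P₁.IsPrime] :
    ∃ P₂ : Ideal (A₁ ⊗[A] B), P₂.IsPrime ∧
      P₂.comap (Algebra.TensorProduct.includeRight (R := A) (A := A₁) (B := B)).toRingHom =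
        (P₁.comap (Algebra.TensorProduct.includeRight (R := A₀) (A := A₁)
          (B := A₀ ⊗[A] B)).toRingHom).comap
            (Algebra.TensorProduct.includeRight (R := A) (A := A₀) (B := B)).toRingHom ∧
      P₂.under A₁ = P₁.under A₁ ∧ P₂.height = P₁.height := by
  let e : A₁ ⊗[A₀] (A₀ ⊗[A] B) ≃ₐ[A₁] A₁ ⊗[A] B :=
    Algebra.TensorProduct.cancelBaseChange A A₀ A₁ A₁ B
  have hes : ∀ b : B, e.symm (1 ⊗ₜ b) = 1 ⊗ₜ (1 ⊗ₜ b) := by
    intro b
    rw [AlgEquiv.symm_apply_eq]
    change _ = Algebra.TensorProduct.cancelBaseChange A A₀ A₁ A₁ B _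
    rw [Algebra.TensorProduct.cancelBaseChange_tmul]
    simp
  refine ⟨P₁.comap e.symm.toRingEquiv.toRingHom, Ideal.comap_isPrime _ _, ?_, ?_, ?_⟩
  · ext b
    change e.symm (1 ⊗ₜ b) ∈ P₁ ↔ (1 : A₁) ⊗ₜ[A₀] ((1 : A₀) ⊗ₜ[A] b) ∈ P₁
    rw [hes]
  · ext a
    change e.symm (algebraMap A₁ _ a) ∈ P₁ ↔ algebraMap A₁ _ a ∈ P₁
    rw [e.symm.commutes]
  · exact RingEquiv.height_comap e.symm.toRingEquiv P₁

/-- The affine theorem over a Noetherian domain. -/
theorem isUnivOpenAt_of_isDomain {A B : Type u} [CommRing A] [IsDomain A] [IsNoetherianRing A]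
    [CommRing B] [Algebra A B] [Algebra.FiniteType A B] (P₀ P : PrimeSpectrum B)
    (hP₀ : P₀.asIdeal.under A = P.asIdeal.under A)
    (hle : ∀ Q : Ideal B, Q.IsPrime → Q.under A = P.asIdeal.under A → P₀.asIdeal ≤ Q)
    (hmax : ∀ P' : Ideal B, P'.IsPrime → P.asIdeal ≤ P' → P'.under A = P.asIdeal.under A →
      P' = P.asIdeal)
    (H : ∀ (A₁ : Type u) [CommRing A₁] [Algebra A A₁] [Module.Finite A A₁]
      (P' : Ideal (A₁ ⊗[A] B)), P'.IsPrime →
      P'.comap (Algebra.TensorProduct.includeRight (R := A) (A := A₁) (B := B)).toRingHom =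
        P₀.asIdeal → (P'.under A₁).height ≤ P'.height) :
    IsUnivOpenAt (Spec.map (CommRingCat.ofHom (algebraMap A B))) P := by
  obtain ⟨A', _, _, hfin, hinj, hA'⟩ := K125.QSAway.exists_away A P.asIdeal hmax
  have hN : IsNoetherianRing A' := IsNoetherianRing.of_finite A A'
  have hN2 : IsNoetherianRing (A' ⊗[A] B) := Algebra.FiniteType.isNoetherianRing A' _
  have hfinite : IsFinite (Spec.map (CommRingCat.ofHom (algebraMap A A'))) := by
    rw [IsFinite.SpecMap_iff]
    exact RingHom.finite_algebraMap.mpr hfin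
  refine isUnivOpenAt_of_cover (ι := Unit) _ P _ _ _ _ _ (fun _ => isPullback_tensor A A' B) ?_ ?_
  · intro y
    have hyp : (PrimeSpectrum.asIdeal y).IsPrime := PrimeSpectrum.isPrime y
    obtain ⟨Q, hQ, hQ2⟩ := Ideal.exists_ideal_over_prime_of_isIntegral (S := A') y.asIdeal ⊥ (by
      rw [← RingHom.ker_eq_comap_bot, (RingHom.injective_iff_ker_eq_bot _).mp hinj]; exact bot_le)
    refine ⟨(), ⟨Q, hQ2.1⟩, ?_⟩
    apply PrimeSpectrum.ext
    exact hQ2.2
  · intro _ P' hP'
    have hP'p : (PrimeSpectrum.asIdeal P').IsPrime := PrimeSpectrum.isPrime P'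
    have hP'P : P'.asIdeal.comap (Algebra.TensorProduct.includeRight
      (R := A) (A := A') (B := B)).toRingHom = P.asIdeal := by rw [← hP']; rfl
    have hht : (P'.asIdeal.under A').height + Groth.Agent.Ega43.QSHeight.fh A P.asIdeal ≤
        P'.asIdeal.height :=
      K125.QSHeight.height_add_fh_le P₀.asIdeal P.asIdeal hP₀ hle (H A') P'.asIdeal hP'P
        (fh_ne_top A P.asIdeal)
    obtain ⟨L, _, _, ρ, hL, ψ, M, hM, hMP'⟩ := hA' P'.asIdeal P'.isPrime hP'P hht
    have h1 : Spec.map (CommRingCat.ofHom ψ.toRingHom) ≫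
        Spec.map (CommRingCat.ofHom (algebraMap A' (A' ⊗[A] B))) =
        Spec.map (CommRingCat.ofHom (algebraMap A' L)) := by
      rw [← Spec.map_comp, ← CommRingCat.ofHom_comp]
      congr 2
      exact ψ.comp_algebraMap
    have hopen : IsOpenImmersion (Spec.map (CommRingCat.ofHom (algebraMap A' L))) :=
      IsOpenImmersion.of_isLocalization ρ
    have h2 : UniversallyOpen (Spec.map (CommRingCat.ofHom (algebraMap A' L))) := inferInstance
    have h3 := (universallyOpen_iff_forall_isUnivOpenAt _).mp h2 ⟨M, hM⟩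
    rw [← h1] at h3
    have h4 := isUnivOpenAt_of_comp _ _ _ h3
    convert h4
    apply PrimeSpectrum.ext
    exact hMP'.symm

/-- The affine theorem over a Noetherian ring. -/
theorem isUnivOpenAt_of_isNoetherianRing {A B : Type u} [CommRing A] [IsNoetherianRing A]
    [CommRing B] [Algebra A B] [Algebra.FiniteType A B] (P₀ P : PrimeSpectrum B)
    (hP₀ : P₀.asIdeal.under A = P.asIdeal.under A)
    (hle : ∀ Q : Ideal B, Q.IsPrime → Q.under A = P.asIdeal.under A → P₀.asIdeal ≤ Q)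
    (hmax : ∀ P' : Ideal B, P'.IsPrime → P.asIdeal ≤ P' → P'.under A = P.asIdeal.under A →
      P' = P.asIdeal)
    (H : ∀ (A₁ : Type u) [CommRing A₁] [Algebra A A₁] [Module.Finite A A₁]
      (P' : Ideal (A₁ ⊗[A] B)), P'.IsPrime →
      P'.comap (Algebra.TensorProduct.includeRight (R := A) (A := A₁) (B := B)).toRingHom =
        P₀.asIdeal → (P'.under A₁).height ≤ P'.height) :
    IsUnivOpenAt (Spec.map (CommRingCat.ofHom (algebraMap A B))) P := by
  have hfin : Finite (minimalPrimes A) := (minimalPrimes.finite_of_isNoetherianRing A).to_subtype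
  have hclosed : ∀ q : minimalPrimes A,
      UniversallyClosed (Spec.map (CommRingCat.ofHom (algebraMap A (A ⧸ q.1)))) := by
    intro q
    have : IsClosedImmersion (Spec.map (CommRingCat.ofHom (algebraMap A (A ⧸ q.1)))) :=
      IsClosedImmersion.spec_of_surjective _ Ideal.Quotient.mk_surjective
    infer_instance
  refine isUnivOpenAt_of_cover (ι := minimalPrimes A) _ P _ _ _ _ _
    (fun q => isPullback_tensor A (A ⧸ q.1) B) ?_ ?_
  · intro y
    have hyp : (PrimeSpectrum.asIdeal y).IsPrime := PrimeSpectrum.isPrime y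
    obtain ⟨q, hq, hqy⟩ := Ideal.exists_minimalPrimes_le (I := ⊥) (J := y.asIdeal) bot_le
    refine ⟨⟨q, hq⟩, ⟨y.asIdeal.map (Ideal.Quotient.mk q), Ideal.isPrime_map_quotientMk_of_isPrime hqy⟩, ?_⟩
    apply PrimeSpectrum.ext
    have : ∀ I : Ideal A, q ≤ I → (I.map (Ideal.Quotient.mk q)).comap (Ideal.Quotient.mk q) = I := by
      intro I hI
      rw [Ideal.comap_map_of_surjective' _ Ideal.Quotient.mk_surjective, Ideal.mk_ker,
        sup_eq_left.mpr hI]
    exact this _ hqy
  · intro q P' hP'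
    have hq : q.1.IsPrime := q.2.1.1
    let s : B →+* (A ⧸ q.1) ⊗[A] B :=
      (Algebra.TensorProduct.includeRight (R := A) (A := A ⧸ q.1) (B := B)).toRingHom
    have hsurj : Function.Surjective s := by
      intro x
      induction x using TensorProduct.induction_on with
      | zero => exact ⟨0, map_zero _⟩
      | add x y hx hy =>
        obtain ⟨a, rfl⟩ := hx
        obtain ⟨b, rfl⟩ := hy
        exact ⟨a + b, map_add _ _ _⟩
      | tmul a b =>
        obtain ⟨a, rfl⟩ := Ideal.Quotient.mk_surjective a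
        refine ⟨a • b, ?_⟩
        change (1 : A ⧸ q.1) ⊗ₜ[A] (a • b) = _
        rw [← TensorProduct.smul_tmul]
        congr 1
        rw [Algebra.smul_def, mul_one]
        rfl
    have hP1 : P'.asIdeal.comap s = P.asIdeal := by rw [← hP']; rfl
    have e1 : ∀ Θ : Ideal ((A ⧸ q.1) ⊗[A] B),
        (Θ.comap s).under A = (Θ.under (A ⧸ q.1)).comap (algebraMap A (A ⧸ q.1)) := by
      intro Θ
      ext a
      change (1 : A ⧸ q.1) ⊗ₜ[A] (algebraMap A B a) ∈ Θ ↔
        (algebraMap A (A ⧸ q.1) a) ⊗ₜ[A] (1 : B) ∈ Θ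
      rw [Algebra.algebraMap_eq_smul_one (R := A) (A := B), ← TensorProduct.smul_tmul,
        ← Algebra.algebraMap_eq_smul_one]
    have hqP : q.1 ≤ P₀.asIdeal.under A := by
      rw [hP₀, ← hP1, e1]
      intro a ha
      have : algebraMap A (A ⧸ q.1) a = 0 := Ideal.Quotient.eq_zero_iff_mem.mpr ha
      rw [Ideal.mem_comap, this]
      exact Ideal.zero_mem _
    -- the prime of `(A ⧸ q) ⊗ B` over `P₀`
    let i₁ : (A ⧸ q.1) →ₐ[A] B ⧸ P₀.asIdeal := Ideal.Quotient.liftₐ q.1 (Algebra.ofId A _) (by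
      intro a ha
      exact Ideal.Quotient.eq_zero_iff_mem.mpr (hqP ha))
    let ℓ : (A ⧸ q.1) ⊗[A] B →ₐ[A] B ⧸ P₀.asIdeal :=
      Algebra.TensorProduct.lift i₁ (Ideal.Quotient.mkₐ A P₀.asIdeal) (fun _ _ => .all _ _)
    let Q₀ : PrimeSpectrum ((A ⧸ q.1) ⊗[A] B) := ⟨RingHom.ker ℓ, RingHom.ker_isPrime _⟩
    have hQ₀ : Q₀.asIdeal.comap s = P₀.asIdeal := by
      ext b
      change ℓ (1 ⊗ₜ b) = 0 ↔ _
      rw [Algebra.TensorProduct.lift_tmul, map_one, one_mul]
      exact Ideal.Quotient.eq_zero_iff_mem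
    have hinjA : Function.Injective (Ideal.comap (algebraMap A (A ⧸ q.1))) :=
      Ideal.comap_injective_of_surjective _ Ideal.Quotient.mk_surjective
    refine isUnivOpenAt_of_isDomain Q₀ P' ?_ ?_ ?_ ?_
    · apply hinjA
      rw [← e1, ← e1, hQ₀, hP1, hP₀]
    · intro Q hQ hQu
      have h1 : P₀.asIdeal ≤ Q.comap s := by
        apply hle _ inferInstance
        rw [e1, hQu, ← e1, hP1]
      intro x hx
      obtain ⟨b, rfl⟩ := hsurj x
      apply h1
      rw [← hQ₀]
      exact hx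
    · intro P'' hP'' hle' hun
      apply Ideal.comap_injective_of_surjective _ hsurj
      rw [hP1]
      apply hmax _ (Ideal.comap_isPrime _ _)
      · rw [← hP1]; exact Ideal.comap_mono hle'
      · rw [← hP1, e1, e1, hun]
    · intro A₁ _ _ _ P₁ hP₁ hP₁Q
      let _ : Algebra A A₁ := Algebra.compHom A₁ (algebraMap A (A ⧸ q.1))
      have _ : IsScalarTower A (A ⧸ q.1) A₁ := IsScalarTower.of_algebraMap_eq fun _ => rfl
      have _ : Module.Finite A A₁ := Module.Finite.trans (A ⧸ q.1) A₁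
      obtain ⟨P₂, hP₂, h1, h2, h3⟩ := exists_prime_cancel (A := A) P₁
      rw [← h2, ← h3]
      apply H A₁ P₂ hP₂
      rw [h1, hP₁Q]
      exact hQ₀

end K125.QSAffine
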