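import Groth.Agent.EGA43.K125.QSHeight
import Groth.Agent.Ega43.QSAway

/-!
# Splitting after a finite base change, from an inequality of heights

Variant of `Groth.Agent.Ega43.QSAway` in which going down is replaced by an inequality of heights.
-/

set_option autoImplicit false
universe u
namespace K125.QSAway

open TensorProduct Groth.Agent.Ega43.QSHeight Groth.Agent.Ega43.QSExists Groth.Agent.Ega43.QSCut
  Groth.Agent.Ega43.QSSplit
open Groth.Agent.Ega43.QSCore (height_drop quasiFiniteAt_cut)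
open Groth.Agent.Ega43.QSAway (exists_pow_mul_mem isLocalizationAway)

/-- Let `C = B ⧸ (s)`, `s` a cut of `P`. For a prime `P'` of `A' ⊗ B` over `P` the prime `P''` of `A' ⊗ C`
satisfies `ht (P'' ∩ A') ≤ ht P''`. -/
theorem height_le_of_cut {A A' B : Type*} [CommRing A] [CommRing A'] [CommRing B]
    [Algebra A A'] [Algebra A B] [Algebra.FiniteType A B] [IsNoetherianRing A']
    (P : Ideal B) [P.IsPrime] (s : Finset B) (hs : (s : Set B) ⊆ P)
    (hcard : (s.card : ℕ∞) ≤ fh A P)
    (P' : Ideal (A' ⊗[A] B)) [P'.IsPrime]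
    (hht : (P'.under A').height + fh A P ≤ P'.height)
    (h : P'.comap (Algebra.TensorProduct.includeRight (R := A) (A := A') (B := B)).toRingHom = P) :
    ∃ P'' : Ideal (A' ⊗[A] (B ⧸ Ideal.span (s : Set B))), P''.IsPrime ∧
      P''.comap (Algebra.TensorProduct.map (AlgHom.id A' A')
        (Ideal.Quotient.mkₐ A (Ideal.span (s : Set B)))).toRingHom = P' ∧
      (P''.under A').height ≤ P''.height := by
  classical
  set θ : A' ⊗[A] B →ₐ[A'] A' ⊗[A] (B ⧸ Ideal.span (s : Set B)) :=
    Algebra.TensorProduct.map (AlgHom.id A' A') (Ideal.Quotient.mkₐ A (Ideal.span (s : Set B))) with hθdef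
  have hN : IsNoetherianRing (A' ⊗[A] B) := Algebra.FiniteType.isNoetherianRing A' _
  have hθs : Function.Surjective θ := Algebra.TensorProduct.map_surjective _ _ Function.surjective_id
    (Ideal.Quotient.mkₐ_surjective A _)
  let ι : B →ₐ[A] A' ⊗[A] B := Algebra.TensorProduct.includeRight
  let s' : Set (A' ⊗[A] B) := ι '' s
  have hker : RingHom.ker θ.toRingHom = Ideal.span s' := by
    have h1 := Algebra.TensorProduct.lTensor_ker (A := A') (Ideal.Quotient.mkₐ A (Ideal.span (s : Set B)))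
      (Ideal.Quotient.mkₐ_surjective A _)
    have h2 : RingHom.ker (Ideal.Quotient.mkₐ A (Ideal.span (s : Set B))) = Ideal.span (s : Set B) :=
      Ideal.Quotient.mkₐ_ker A _
    rw [h2] at h1
    change RingHom.ker (Algebra.TensorProduct.map (AlgHom.id A A')
      (Ideal.Quotient.mkₐ A (Ideal.span (s : Set B)))) = _
    rw [h1]
    exact Ideal.map_span _ _
  have hs'P' : s' ⊆ P' := by
    rintro _ ⟨b, hb, rfl⟩
    have : b ∈ P := hs hb
    rw [← h] at this
    exact this
  have hkerP' : RingHom.ker θ.toRingHom ≤ P' := by rw [hker, Ideal.span_le]; exact hs'P'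
  have hcomap : (P'.map θ.toRingHom).comap θ.toRingHom = P' := by
    rw [Ideal.comap_map_of_surjective' θ.toRingHom hθs, sup_eq_left.mpr hkerP']
  have hprime : (P'.map θ.toRingHom).IsPrime := Ideal.map_isPrime_of_surjective hθs hkerP'
  refine ⟨P'.map θ.toRingHom, hprime, hcomap, ?_⟩
  have h1 := hht
  have h2 := height_drop θ.toRingHom hθs s' hker P' hs'P'
  have h3 : s'.encard ≤ fh A P := by
    refine le_trans (Set.encard_image_le _ _) ?_
    rw [Set.encard_coe_eq_coe_finsetCard]
    exact hcard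
  have h4 : (P'.map θ.toRingHom).under A' = P'.under A' := by
    conv_rhs => rw [← hcomap]
    ext a
    rw [Ideal.under_def, Ideal.under_def, Ideal.mem_comap, Ideal.mem_comap, Ideal.mem_comap,
      ← θ.commutes a]
    rfl
  rw [h4]
  have h5 : (P'.under A').height + fh A P ≤ (P'.map θ.toRingHom).height + fh A P :=
    h1.trans (h2.trans (by gcongr))
  exact (ENat.add_le_add_iff_right (fh_ne_top A P)).mp h5

/-- The key algebraic statement: after a suitable finite injective extension `A ⟶ A'` of domains, every prime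
`P'` of `A' ⊗ B` over `P` is hit by `Spec L`, where `L` is an `A' ⊗ B`-algebra that is a localization `A'_ρ`. -/
theorem exists_away (A : Type u) {B : Type u} [CommRing A] [IsDomain A] [IsNoetherianRing A] [CommRing B]
    [Algebra A B] [Algebra.FiniteType A B] (P : Ideal B) [P.IsPrime]
    (hmax : ∀ P' : Ideal B, P'.IsPrime → P ≤ P' → P'.under A = P.under A → P' = P) :
    ∃ (A' : Type u) (_ : CommRing A') (_ : Algebra A A'), Module.Finite A A' ∧
      Function.Injective (algebraMap A A') ∧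
      (∀ P' : Ideal (A' ⊗[A] B), P'.IsPrime →
        P'.comap (Algebra.TensorProduct.includeRight (R := A) (A := A') (B := B)).toRingHom = P →
        (P'.under A').height + fh A P ≤ P'.height →
        ∃ (L : Type u) (_ : CommRing L) (_ : Algebra A' L) (ρ : A') (_ : IsLocalization.Away ρ L)
          (ψ : A' ⊗[A] B →ₐ[A'] L) (M : Ideal L), M.IsPrime ∧ M.comap ψ.toRingHom = P') := by
  obtain ⟨s, hs, hcard, hcut⟩ := exists_cut A P
  obtain ⟨PC, hPC, hPCcomap, hqf⟩ := quasiFiniteAt_cut P s hs hcut hmax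
  let C := B ⧸ Ideal.span (s : Set B)
  obtain ⟨S', hS', r, hr, hbij⟩ :=
    Algebra.QuasiFiniteAt.exists_fg_and_exists_notMem_and_awayMap_bijective (R := A) PC
  have hS'fin : Module.Finite A S' := ⟨(Submodule.fg_top _).mpr hS'⟩
  obtain ⟨A', _, _, _, hA'fin, hA'inj, hsplit⟩ := exists_splitting.{u, u, u} A S'
  refine ⟨A', inferInstance, inferInstance, hA'fin, hA'inj, ?_⟩
  intro P' hP' hP'P hht'
  have hA'N : IsNoetherianRing A' := IsNoetherianRing.of_finite A A'
  obtain ⟨P'', hP'', hP''comap, hht⟩ := height_le_of_cut (A := A) (A' := A') P s hs hcard P' hht' hP'P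
  have hPC' : PC = P''.comap (Algebra.TensorProduct.includeRight (R := A) (A := A') (B := C)).toRingHom := by
    apply Ideal.comap_injective_of_surjective (Ideal.Quotient.mk (Ideal.span (s : Set B)))
      Ideal.Quotient.mk_surjective
    rw [hPCcomap, ← hP'P, ← hP''comap]
    ext b
    simp only [Ideal.mem_comap]
    change _ ⊗ₜ[A] _ ∈ P'' ↔ _ ⊗ₜ[A] _ ∈ P''
    rfl
  have hqf' : Algebra.QuasiFiniteAt A' P'' := Algebra.QuasiFiniteAt.baseChange PC P'' hPC'
  have hNC : IsNoetherianRing (A' ⊗[A] C) := Algebra.FiniteType.isNoetherianRing A' _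
  obtain ⟨Q, hQ, hQP'', hQA'⟩ := exists_prime_over_bot (A := A') P''
    (fun P₁ hP₁ hle hun => Algebra.QuasiFiniteAt.eq_of_le_of_under_eq (R := A') hle hun) hht
  let G := (A' ⊗[A] C) ⧸ Q
  have hG : IsDomain G := inferInstance
  have hGinj : Function.Injective (algebraMap A' G) := by
    rw [injective_iff_map_eq_zero]
    intro a ha
    have : a ∈ Q.under A' := by
      rw [Ideal.under_def, Ideal.mem_comap, ← Ideal.Quotient.eq_zero_iff_mem]
      exact ha
    rwa [hQA'] at this
  let φC : C →ₐ[A] G := ((Ideal.Quotient.mkₐ A' Q).restrictScalars A).comp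
    (Algebra.TensorProduct.includeRight (R := A) (A := A') (B := C))
  let φ : S' →ₐ[A] G := φC.comp S'.val
  obtain ⟨ρ, hρ⟩ := hsplit G φ r
  have hrG : φ r ∉ P''.map (Ideal.Quotient.mk Q) := by
    intro hmem
    apply hr
    rw [hPC']
    change Ideal.Quotient.mk Q (1 ⊗ₜ[A] r.1) ∈ _ at hmem
    rw [Ideal.mem_quotient_iff_mem hQP''] at hmem
    exact hmem
  have hρ0 : algebraMap A' G ρ ≠ 0 := by
    rw [hρ]
    intro h0
    rw [h0] at hrG
    exact hrG (Ideal.zero_mem _)
  have hpow : ∀ g : G, ∃ n : ℕ, (algebraMap A' G ρ) ^ n * g ∈ (algebraMap A' G).range := by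
    intro g
    obtain ⟨x, rfl⟩ := Ideal.Quotient.mk_surjective g
    induction x using TensorProduct.induction_on with
    | zero => exact ⟨0, by rw [map_zero, mul_zero]; exact zero_mem _⟩
    | add x y hx hy =>
      obtain ⟨n, hn⟩ := hx
      obtain ⟨m, hm⟩ := hy
      refine ⟨n + m, ?_⟩
      have : (algebraMap A' G ρ) ^ (n + m) * Ideal.Quotient.mk Q (x + y) =
          (algebraMap A' G ρ) ^ m * ((algebraMap A' G ρ) ^ n * Ideal.Quotient.mk Q x) +
          (algebraMap A' G ρ) ^ n * ((algebraMap A' G ρ) ^ m * Ideal.Quotient.mk Q y) := by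
        rw [map_add]; ring
      rw [this]
      have hρr : algebraMap A' G ρ ∈ (algebraMap A' G).range := ⟨ρ, rfl⟩
      exact add_mem (mul_mem (pow_mem hρr _) hn) (mul_mem (pow_mem hρr _) hm)
    | tmul a c =>
      obtain ⟨n, hn⟩ := exists_pow_mul_mem S' r hbij.2 c
      refine ⟨n, ?_⟩
      have h1 : (algebraMap A' G ρ) ^ n * Ideal.Quotient.mk Q (a ⊗ₜ[A] c) =
          algebraMap A' G a * φ ⟨(r : C) ^ n * c, hn⟩ := by
        rw [hρ]
        change (φC r) ^ n * _ = _ * φC ((r : C) ^ n * c)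
        rw [map_mul, map_pow]
        have : Ideal.Quotient.mk Q (a ⊗ₜ[A] c) = algebraMap A' G a * φC c := by
          change _ = Ideal.Quotient.mk Q (a ⊗ₜ 1) * Ideal.Quotient.mk Q (1 ⊗ₜ c)
          rw [← map_mul, Algebra.TensorProduct.tmul_mul_tmul, mul_one, one_mul]
        rw [this]; ring
      rw [h1]
      exact mul_mem ⟨a, rfl⟩ (hsplit G φ _)
  let L := Localization.Away (algebraMap A' G ρ)
  have hloc : IsLocalization.Away ρ L := isLocalizationAway hGinj ρ hρ0 hpow
  let θ : A' ⊗[A] B →ₐ[A'] A' ⊗[A] C :=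
    Algebra.TensorProduct.map (AlgHom.id A' A') (Ideal.Quotient.mkₐ A (Ideal.span (s : Set B)))
  let ψ : A' ⊗[A] B →ₐ[A'] L := (IsScalarTower.toAlgHom A' G L).comp ((Ideal.Quotient.mkₐ A' Q).comp θ)
  have hprime1 : (P''.map (Ideal.Quotient.mk Q)).IsPrime := Ideal.isPrime_map_quotientMk_of_isPrime hQP''
  have hdisj : Disjoint (Submonoid.powers (algebraMap A' G ρ) : Set G) (P''.map (Ideal.Quotient.mk Q)) := by
    rw [Set.disjoint_left]
    rintro _ ⟨n, rfl⟩ hmem
    apply hrG
    rw [← hρ]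
    exact hprime1.mem_of_pow_mem n hmem
  refine ⟨L, inferInstance, inferInstance, ρ, hloc, ψ,
    (P''.map (Ideal.Quotient.mk Q)).map (algebraMap G L),
    IsLocalization.isPrime_of_isPrime_disjoint _ _ _ hprime1 hdisj, ?_⟩
  have h1 := IsLocalization.under_map_of_isPrime_disjoint _ L hprime1 hdisj
  rw [← hP''comap]
  ext x
  rw [Ideal.mem_comap, Ideal.mem_comap]
  change algebraMap G L (Ideal.Quotient.mk Q (θ x)) ∈ _ ↔ θ x ∈ P''
  rw [← Ideal.mem_quotient_iff_mem hQP'']
  conv_rhs => rw [← h1]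
  rfl

end K125.QSAway
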