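import Groth.Agent.Ega43.QSHeight

/-!
# Heights in base changes, from the generic point of the fibre

Variant of `Groth.Agent.Ega43.QSHeight` in which going down is replaced by an inequality of heights
at the primes over the generic point `P₀` of the fibre.
-/

set_option autoImplicit false
universe u
namespace K125.QSHeight

open TensorProduct Groth.Agent.Ega43.QSHeight

/-- Chain lifting through `F ⟶ F ⊗[K] k`. -/
theorem height_add_le_aux {A A' B K k : Type*} [CommRing A] [CommRing A'] [CommRing B] [Field K] [Field k]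
    [Algebra A A'] [Algebra A B] [Algebra A K] [Algebra A k] [Algebra A' k] [IsScalarTower A A' k]
    [Algebra K k] [IsScalarTower A K k]
    (Φ₀ : Ideal (K ⊗[A] B)) [Φ₀.IsPrime] (hΦ₀ : ∀ Φ : Ideal (K ⊗[A] B), Φ.IsPrime → Φ₀ ≤ Φ)
    (hbase : ∀ P' : Ideal (A' ⊗[A] B), P'.IsPrime →
      P'.comap (Algebra.TensorProduct.includeRight (R := A) (A := A') (B := B)).toRingHom =
        Φ₀.comap (Algebra.TensorProduct.includeRight (R := A) (A := K) (B := B)).toRingHom →
      (P'.under A').height ≤ P'.height)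
    (hinj : ∀ Φ₁ Φ₂ : Ideal (K ⊗[A] B), Φ₁.IsPrime → Φ₂.IsPrime →
      Φ₁.comap (Algebra.TensorProduct.includeRight (R := A) (A := K) (B := B)).toRingHom =
      Φ₂.comap (Algebra.TensorProduct.includeRight (R := A) (A := K) (B := B)).toRingHom → Φ₁ = Φ₂)
    (β : A' ⊗[A] B →+* (K ⊗[A] B) ⊗[K] k)
    (hβ1 : ∀ a', β (algebraMap A' _ a') = 1 ⊗ₜ (algebraMap A' k a'))
    (hβ2 : ∀ b, β (1 ⊗ₜ b) = (1 ⊗ₜ b) ⊗ₜ 1) (n : ℕ) :
    ∀ (Φ : Ideal (K ⊗[A] B)) (Ψ : Ideal ((K ⊗[A] B) ⊗[K] k)) [Φ.IsPrime] [Ψ.IsPrime] [Ψ.LiesOver Φ],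
      (n : ℕ∞) ≤ Φ.height → (RingHom.ker (algebraMap A' k)).height + n ≤ (Ψ.comap β).height := by
  have hunder : ∀ (Ψ : Ideal ((K ⊗[A] B) ⊗[K] k)) [Ψ.IsPrime],
      (Ψ.comap β).under A' = RingHom.ker (algebraMap A' k) := by
    intro Ψ hΨ
    ext a'
    rw [Ideal.under_def, Ideal.mem_comap, Ideal.mem_comap, hβ1, RingHom.mem_ker]
    constructor
    · intro h
      by_contra hne
      apply hΨ.ne_top
      rw [Ideal.eq_top_iff_one]
      have := Ψ.mul_mem_left ((1 : K ⊗[A] B) ⊗ₜ[K] (algebraMap A' k a')⁻¹) h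
      rw [Algebra.TensorProduct.tmul_mul_tmul, inv_mul_cancel₀ hne, one_mul] at this
      exact this
    · intro h
      rw [h, TensorProduct.tmul_zero]
      exact Ψ.zero_mem
  induction n with
  | zero =>
    intro Φ Ψ hΦ _ _ _
    have : Module.Flat (K ⊗[A] B) ((K ⊗[A] B) ⊗[K] k) := inferInstance
    obtain ⟨Ψ₀, hleΨ, hΨ₀, hlo⟩ := Ideal.exists_ideal_le_liesOver_of_le Ψ (hΦ₀ Φ hΦ)
    have h0 := hbase (Ψ₀.comap β) inferInstance (by
      rw [hlo.over]
      ext b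
      change β (1 ⊗ₜ b) ∈ Ψ₀ ↔ (algebraMap (K ⊗[A] B) ((K ⊗[A] B) ⊗[K] k)) (1 ⊗ₜ b) ∈ Ψ₀
      rw [hβ2]
      rfl)
    rw [hunder Ψ₀] at h0
    refine le_trans ?_ (h0.trans (Ideal.height_mono (Ideal.comap_mono hleΨ)))
    simp
  | succ n ih =>
    intro Φ Ψ _ _ _ hn
    obtain ⟨Φ₁, hΦ₁, hlt, hn1⟩ : ∃ Φ₁ : Ideal (K ⊗[A] B), Φ₁.IsPrime ∧ Φ₁ < Φ ∧ (n : ℕ∞) ≤ Φ₁.height := by
      by_contra hcon
      push Not at hcon
      have : Φ.height ≤ n := Ideal.height_le_iff.mpr (fun q hq hlt => hcon q hq hlt)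
      have h2 := hn.trans this
      norm_cast at h2
      omega
    have : Module.Flat (K ⊗[A] B) ((K ⊗[A] B) ⊗[K] k) := inferInstance
    obtain ⟨Ψ₁, hltΨ, hΨ₁, hlo⟩ := Ideal.exists_ideal_lt_liesOver_of_lt Ψ hlt
    have h1 := ih Φ₁ Ψ₁ hn1
    have hlt2 : Ψ₁.comap β < Ψ.comap β := by
      refine lt_of_le_of_ne (Ideal.comap_mono hltΨ.le) fun heq => hlt.ne ?_
      apply hinj _ _ hΦ₁ inferInstance
      rw [Ideal.LiesOver.over (P := Ψ) (p := Φ), hlo.over]
      have e : ∀ Θ : Ideal ((K ⊗[A] B) ⊗[K] k),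
          Ideal.comap (Algebra.TensorProduct.includeRight (R := A) (A := K) (B := B)).toRingHom
            (Ideal.under (K ⊗[A] B) Θ) =
          Ideal.comap (Algebra.TensorProduct.includeRight (R := A) (A := A') (B := B)).toRingHom
            (Θ.comap β) := by
        intro Θ
        ext b
        change (algebraMap (K ⊗[A] B) ((K ⊗[A] B) ⊗[K] k)) (1 ⊗ₜ b) ∈ Θ ↔ β (1 ⊗ₜ b) ∈ Θ
        rw [hβ2]
        rfl
      rw [e, e, heq]
    have h3 := Ideal.height_add_one_le_of_lt_of_isPrime hlt2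
    calc _ = (RingHom.ker (algebraMap A' k)).height + n + 1 := by push_cast; ring
      _ ≤ (Ψ₁.comap β).height + 1 := by gcongr
      _ ≤ _ := h3

/-- Let `P'` be a prime of `A' ⊗ B` over `P`. If the primes of `A' ⊗ B` over
`P₀`, the generic point of the fibre, have at least the height of their contractions to `A'`, then
`ht (P' ∩ A') + (height of P in its fibre) ≤ ht P'`. -/
theorem height_add_fh_le {A A' B : Type*} [CommRing A] [CommRing A'] [CommRing B]
    [Algebra A A'] [Algebra A B] (P₀ P : Ideal B) [P₀.IsPrime] [P.IsPrime]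
    (hP₀ : P₀.under A = P.under A)
    (hle : ∀ Q : Ideal B, Q.IsPrime → Q.under A = P.under A → P₀ ≤ Q)
    (hbase : ∀ P' : Ideal (A' ⊗[A] B), P'.IsPrime →
      P'.comap (Algebra.TensorProduct.includeRight (R := A) (A := A') (B := B)).toRingHom = P₀ →
      (P'.under A').height ≤ P'.height)
    (P' : Ideal (A' ⊗[A] B)) [P'.IsPrime]
    (h : P'.comap (Algebra.TensorProduct.includeRight (R := A) (A := A') (B := B)).toRingHom = P)
    (hfin : fh A P ≠ ⊤) :
    (P'.under A').height + fh A P ≤ P'.height := by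
  let k := P'.ResidueField
  let K := (P.under A).ResidueField
  have hp : P.under A = P'.comap (algebraMap A (A' ⊗[A] B)) := by
    rw [← h]
    ext a
    change (1 : A') ⊗ₜ[A] (algebraMap A B a) ∈ P' ↔ (algebraMap A A' a) ⊗ₜ[A] (1 : B) ∈ P'
    rw [Algebra.algebraMap_eq_smul_one (R := A) (A := B), ← TensorProduct.smul_tmul,
      ← Algebra.algebraMap_eq_smul_one]
  let f : K →+* k := Ideal.ResidueField.map (P.under A) P' (algebraMap A (A' ⊗[A] B)) hp
  let _ : Algebra K k := f.toAlgebra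
  have : IsScalarTower A K k := IsScalarTower.of_algebraMap_eq fun a => by
    change _ = f (algebraMap A K a)
    rw [Ideal.ResidueField.map_algebraMap]
    rfl
  let iB : B →ₐ[A] k := (IsScalarTower.toAlgHom A (A' ⊗[A] B) k).comp
    (Algebra.TensorProduct.includeRight (R := A) (A := A') (B := B))
  let γ : K ⊗[A] B →ₐ[K] k := Algebra.TensorProduct.lift (Algebra.ofId K k) iB (fun _ _ => .all _ _)
  let δ : (K ⊗[A] B) ⊗[K] k →ₐ[K] k := Algebra.TensorProduct.lift γ (AlgHom.id K k) (fun _ _ => .all _ _)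
  let j1 : A' →ₐ[A] (K ⊗[A] B) ⊗[K] k :=
    ((Algebra.TensorProduct.includeRight (R := K) (A := K ⊗[A] B) (B := k)).restrictScalars A).comp
      (IsScalarTower.toAlgHom A A' k)
  let j2 : B →ₐ[A] (K ⊗[A] B) ⊗[K] k :=
    (IsScalarTower.toAlgHom A (K ⊗[A] B) ((K ⊗[A] B) ⊗[K] k)).comp
      (Algebra.TensorProduct.includeRight (R := A) (A := K) (B := B))
  let β : A' ⊗[A] B →ₐ[A] (K ⊗[A] B) ⊗[K] k := Algebra.TensorProduct.lift j1 j2 (fun _ _ => .all _ _)
  have hδβ : ∀ x, δ (β x) = algebraMap (A' ⊗[A] B) k x := by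
    intro x
    induction x using TensorProduct.induction_on with
    | zero => simp
    | add x y hx hy => rw [map_add, map_add, hx, hy, map_add]
    | tmul a' b =>
      rw [Algebra.TensorProduct.lift_tmul]
      change δ ((1 : K ⊗[A] B) ⊗ₜ[K] (algebraMap A' k a') * ((1 : K) ⊗ₜ[A] b) ⊗ₜ[K] (1 : k)) = _
      rw [map_mul, Algebra.TensorProduct.lift_tmul, Algebra.TensorProduct.lift_tmul, map_one, one_mul,
        map_one, mul_one, Algebra.TensorProduct.lift_tmul, map_one, one_mul]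
      change algebraMap (A' ⊗[A] B) k (a' ⊗ₜ 1) * algebraMap (A' ⊗[A] B) k (1 ⊗ₜ b) = _
      rw [← map_mul, Algebra.TensorProduct.tmul_mul_tmul, mul_one, one_mul]
  have hΨ : (RingHom.ker δ).comap β.toRingHom = P' := by
    ext x
    change δ (β x) = 0 ↔ _
    rw [hδβ, Ideal.algebraMap_residueField_eq_zero]
  have hprime : (RingHom.ker δ).IsPrime := RingHom.ker_isPrime _
  have hγprime : (RingHom.ker γ).IsPrime := RingHom.ker_isPrime _
  have hγ : RingHom.ker γ = (fibrePt A P).asIdeal := by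
    apply fibre_injective A (P.under A) _ _ hγprime (fibrePt A P).isPrime
    rw [comap_fibrePt]
    ext b
    change γ (1 ⊗ₜ b) = 0 ↔ b ∈ P
    rw [Algebra.TensorProduct.lift_tmul, map_one, one_mul]
    change algebraMap (A' ⊗[A] B) k (1 ⊗ₜ b) = 0 ↔ b ∈ P
    rw [Ideal.algebraMap_residueField_eq_zero, ← h]
    rfl
  have hlo : (RingHom.ker δ).LiesOver (fibrePt A P).asIdeal := by
    constructor
    rw [← hγ]
    ext y
    change γ y = 0 ↔ δ (y ⊗ₜ 1) = 0
    rw [Algebra.TensorProduct.lift_tmul, map_one, mul_one]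
  have hker : RingHom.ker (algebraMap A' k) = P'.under A' := by
    ext a'
    rw [RingHom.mem_ker, IsScalarTower.algebraMap_apply A' (A' ⊗[A] B) k,
      Ideal.algebraMap_residueField_eq_zero]
    rfl
  obtain ⟨n, hn⟩ := ENat.ne_top_iff_exists.mp hfin
  have := (fibrePt A P).isPrime
  let e := PrimeSpectrum.primesOverOrderIsoFiber A B (P.under A)
  let Φ₀ : PrimeSpectrum ((P.under A).Fiber B) := e ⟨P₀, ⟨inferInstance, ⟨hP₀.symm⟩⟩⟩
  have hΦ₀p := Φ₀.isPrime
  have hcomap : ∀ Φ : PrimeSpectrum ((P.under A).Fiber B),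
      Φ.asIdeal.comap (Algebra.TensorProduct.includeRight
        (R := A) (A := (P.under A).ResidueField) (B := B)).toRingHom = (e.symm Φ).1 := fun Φ =>
    (PrimeSpectrum.coe_primesOverOrderIsoFiber_symm_apply (R := A) (p := P.under A) Φ).symm
  have hΦ₀ : ∀ Φ : Ideal (K ⊗[A] B), Φ.IsPrime → Φ₀.asIdeal ≤ Φ := by
    intro Φ hΦ
    have h1 : (⟨P₀, ⟨inferInstance, ⟨hP₀.symm⟩⟩⟩ : (P.under A).primesOver B) ≤ e.symm ⟨Φ, hΦ⟩ :=
      hle _ (e.symm ⟨Φ, hΦ⟩).2.1 (e.symm ⟨Φ, hΦ⟩).2.2.over.symm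
    rw [OrderIso.le_symm_apply] at h1
    exact h1
  have hΦ₀c : Φ₀.asIdeal.comap (Algebra.TensorProduct.includeRight
        (R := A) (A := (P.under A).ResidueField) (B := B)).toRingHom = P₀ := by
    rw [hcomap, OrderIso.symm_apply_apply]
  have key := height_add_le_aux (A := A) (A' := A') (B := B) (K := K) (k := k)
    Φ₀.asIdeal hΦ₀ (fun Q hQ hQ' => hbase Q hQ (hQ'.trans hΦ₀c))
    (fun Φ₁ Φ₂ h1 h2 h12 => fibre_injective A (P.under A) Φ₁ Φ₂ h1 h2 h12) β.toRingHom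
    (fun a' => ?_) (fun b => ?_) n (fibrePt A P).asIdeal (RingHom.ker δ) hn.le
  · rw [hker, hΨ, hn] at key
    exact key
  · change β (a' ⊗ₜ 1) = _
    rw [Algebra.TensorProduct.lift_tmul, map_one, mul_one]
    rfl
  · change β (1 ⊗ₜ b) = _
    rw [Algebra.TensorProduct.lift_tmul, map_one, one_mul]
    rfl

end K125.QSHeight
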