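import Groth.Prelude.Def_CAlg2
import Mathlib.RingTheory.IntegralClosure.GoingDown
import Mathlib.RingTheory.Spectrum.Prime.Topology
import Mathlib.RingTheory.Localization.FractionRing

/-!
# Integral extensions of a unibranch local ring

`exists_le_comap_eq`: `A` a unibranch local ring, `B` a domain integral over `A` such that
`A_red → B` is injective, `n` a prime of `B` over the maximal ideal of `A`: then
`Spec B_n → Spec A` is surjective.
-/

set_option autoImplicit false
universe u v

open IsLocalRing

namespace K125.UnibranchInt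

theorem exists_le_comap_eq {A : Type u} {B : Type v} [CommRing A] [IsLocalRing A]
    (hA : CAlg2.IsUnibranch A) [CommRing B] [IsDomain B] [Algebra A B]
    (hker : RingHom.ker (algebraMap A B) ≤ nilradical A) [Algebra.IsIntegral A B]
    (n : Ideal B) [n.IsPrime] (hn : n.comap (algebraMap A B) = maximalIdeal A)
    (p : Ideal A) [p.IsPrime] :
    ∃ q : Ideal B, q.IsPrime ∧ q ≤ n ∧ q.comap (algebraMap A B) = p := by
  have hdom : IsDomain (CAlg2.red A) := hA.1
  have hNloc : IsLocalRing (CAlg2.normRed A) := hA.2
  have hnil : nilradical A ≤ RingHom.ker (algebraMap A B) := by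
    intro a ha
    have h1 : IsNilpotent (algebraMap A B a) := IsNilpotent.map (mem_nilradical.mp ha) _
    exact h1.eq_zero
  -- `A_red → B`
  let g : CAlg2.red A →+* B := Ideal.Quotient.lift (nilradical A) (algebraMap A B) (fun a ha => hnil ha)
  have hg : ∀ a : A, g (Ideal.Quotient.mk _ a) = algebraMap A B a := fun a => Ideal.Quotient.lift_mk _ _ _
  have hginj : Function.Injective g := by
    rw [injective_iff_map_eq_zero]
    intro a ha
    obtain ⟨a, rfl⟩ := Ideal.Quotient.mk_surjective a
    rw [hg] at ha
    exact Ideal.Quotient.eq_zero_iff_mem.mpr (hker ha)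
  let L := FractionRing B
  have hinj : Function.Injective ((algebraMap B L).comp g) :=
    (IsFractionRing.injective B L).comp hginj
  let φ : FractionRing (CAlg2.red A) →+* L := IsFractionRing.lift (A := CAlg2.red A) hinj
  have hφ : ∀ a : CAlg2.red A, φ (algebraMap _ _ a) = algebraMap B L (g a) := fun a =>
    IsFractionRing.lift_algebraMap hinj a
  -- `N → B' = ` integral closure of `B` in `L`
  have hint : ∀ x : CAlg2.normRed A, φ (x : FractionRing (CAlg2.red A)) ∈ integralClosure B L := by
    intro x
    have hx : IsIntegral (CAlg2.red A) (x : FractionRing (CAlg2.red A)) := x.2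
    exact IsIntegral.map_of_comp_eq g φ (by ext a; exact (hφ _).symm) hx
  let ψ : CAlg2.normRed A →+* integralClosure B L :=
    (φ.comp (algebraMap (CAlg2.normRed A) (FractionRing (CAlg2.red A)))).codRestrict
      (integralClosure B L) hint
  have hψ : ∀ a : A, ψ (algebraMap (CAlg2.red A) (CAlg2.normRed A) (Ideal.Quotient.mk _ a)) =
      algebraMap B (integralClosure B L) (algebraMap A B a) := by
    intro a
    apply Subtype.ext
    change φ (algebraMap (CAlg2.red A) (FractionRing (CAlg2.red A)) (Ideal.Quotient.mk _ a)) =
      algebraMap B L (algebraMap A B a)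
    rw [hφ, hg]
  have hψinj : Function.Injective ψ := by
    rw [injective_iff_map_eq_zero]
    intro x hx
    have h1 : φ (x : FractionRing (CAlg2.red A)) = 0 := congrArg Subtype.val hx
    exact Subtype.ext ((injective_iff_map_eq_zero φ).mp φ.injective _ h1)
  let ι : A →+* CAlg2.normRed A :=
    (algebraMap (CAlg2.red A) (CAlg2.normRed A)).comp (Ideal.Quotient.mk _)
  have hcomp : ψ.comp ι = (algebraMap B (integralClosure B L)).comp (algebraMap A B) := by
    ext a
    exact congrArg Subtype.val (hψ a)
  have hint1 : ((algebraMap B (integralClosure B L)).comp (algebraMap A B)).IsIntegral :=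
    RingHom.IsIntegral.trans _ _ (algebraMap_isIntegral_iff.mpr inferInstance)
      (algebraMap_isIntegral_iff.mpr inferInstance)
  have hψint : ψ.IsIntegral := by
    rw [← hcomp] at hint1
    exact RingHom.IsIntegral.tower_top _ _ hint1
  have hιint : ι.IsIntegral :=
    RingHom.IsIntegral.trans _ _ (RingHom.isIntegral_of_surjective _ Ideal.Quotient.mk_surjective)
      (algebraMap_isIntegral_iff.mpr inferInstance)
  have hιker : RingHom.ker ι ≤ nilradical A := by
    intro a ha
    have h1 : algebraMap (CAlg2.red A) (CAlg2.normRed A) (Ideal.Quotient.mk _ a) = 0 := ha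
    have h2 : algebraMap (CAlg2.red A) (FractionRing (CAlg2.red A)) (Ideal.Quotient.mk _ a) = 0 :=
      congrArg Subtype.val h1
    have h3 := (injective_iff_map_eq_zero _).mp
      (IsFractionRing.injective (CAlg2.red A) (FractionRing (CAlg2.red A))) _ h2
    exact Ideal.Quotient.eq_zero_iff_mem.mp h3
  -- prime of `B'` over `n`
  have hBB' : Function.Injective (algebraMap B (integralClosure B L)) := by
    intro a b hab
    exact IsFractionRing.injective B L (congrArg Subtype.val hab)
  obtain ⟨n', hn'p, hn'⟩ := Ideal.exists_ideal_over_prime_of_isIntegral_of_isDomain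
    (S := integralClosure B L) n (by
      rw [(RingHom.injective_iff_ker_eq_bot _).mp hBB']; exact bot_le)
  -- its trace on `N` is the maximal ideal
  let m' : Ideal (CAlg2.normRed A) := n'.comap ψ
  have hm'A : m'.comap ι = maximalIdeal A := by
    rw [Ideal.comap_comap, hcomp, ← Ideal.comap_comap, hn', hn]
  have hm'max : m' = maximalIdeal (CAlg2.normRed A) := by
    apply IsLocalRing.eq_maximalIdeal
    have : (m'.comap ι).IsMaximal := by rw [hm'A]; infer_instance
    exact Ideal.isMaximal_of_isIntegral_of_isMaximal_comap' ι hιint m' this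
  -- lift of `p` to `N`
  have hsurj : Function.Surjective (PrimeSpectrum.comap ι) := by
    have h1 := PrimeSpectrum.isClosedMap_comap_of_isIntegral ι hιint
    have h2 := (PrimeSpectrum.denseRange_comap_iff_ker_le_nilRadical ι).mpr hιker
    rw [← Set.range_eq_univ, ← h2.closure_eq, h1.isClosed_range.closure_eq]
  obtain ⟨P, hP⟩ := hsurj ⟨p, inferInstance⟩
  have hP' : P.asIdeal.comap ι = p := congrArg PrimeSpectrum.asIdeal hP
  have hPle : P.asIdeal ≤ m' := by
    rw [hm'max]
    exact IsLocalRing.le_maximalIdeal P.2.ne_top
  -- going down along `N → B'`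
  letI : Algebra (CAlg2.normRed A) (integralClosure B L) := ψ.toAlgebra
  have : Algebra.IsIntegral (CAlg2.normRed A) (integralClosure B L) :=
    algebraMap_isIntegral_iff.mp hψint
  have : FaithfulSMul (CAlg2.normRed A) (integralClosure B L) :=
    (faithfulSMul_iff_algebraMap_injective _ _).mpr hψinj
  have : IsIntegrallyClosed (CAlg2.normRed A) :=
    IsIntegrallyClosed.of_isIntegrallyClosedIn (CAlg2.normRed A) (FractionRing (CAlg2.red A))
  have : n'.LiesOver m' := ⟨rfl⟩
  obtain ⟨Q, hQn', hQp, hQ⟩ := Ideal.exists_ideal_le_liesOver_of_le (R := CAlg2.normRed A)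
    (S := integralClosure B L) (p := P.asIdeal) (q := m') n' hPle
  refine ⟨Q.comap (algebraMap B (integralClosure B L)), hQp.comap _, ?_, ?_⟩
  · rw [← hn']
    exact Ideal.comap_mono hQn'
  · rw [Ideal.comap_comap, ← hcomp, ← Ideal.comap_comap]
    have h1 : Q.comap ψ = P.asIdeal := hQ.over.symm
    rw [h1, hP']

end K125.UnibranchInt
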