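import Groth.Agent.EGA43.K125.UnibranchInt
import Groth.Agent.UnramA.QuasiFiniteStalk
import Groth.Agent.CycB.LocQuot
import Mathlib.RingTheory.Localization.AtPrime.Basic

/-!
# Quasi-finite points over a unibranch point

`exists_specializes_of_isUnibranch`: `f` locally of finite type, quasi-finite at `x`, the local ring
at `f x` unibranch, `ξ ⤳ x` lying over a maximal point of `Y`. Then every generization `y'` of `f x`
is the image of a point `x'` with `ξ ⤳ x' ⤳ x`.
-/

set_option autoImplicit false
universe u v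

open IsLocalRing CategoryTheory AlgebraicGeometry

namespace K125.UnibranchQF

open Groth.Agent.CycB Groth.Agent

/-- A local domain `D` over a unibranch local ring `A`, all of whose elements are fractions of
elements integral over `A`, has surjective `Spec D → Spec A` if `A_red → D` is injective. -/
theorem comap_surjective {A : Type u} {D : Type v} [CommRing A] [IsLocalRing A]
    (hA : CAlg2.IsUnibranch A) [CommRing D] [IsDomain D] [IsLocalRing D] [Algebra A D]
    [IsLocalHom (algebraMap A D)] (hker : RingHom.ker (algebraMap A D) ≤ nilradical A)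
    (hW : ∀ z : D, ∃ t : D, IsUnit t ∧ IsIntegral A t ∧ IsIntegral A (t * z)) :
    Function.Surjective (PrimeSpectrum.comap (algebraMap A D)) := by
  let C := integralClosure A D
  let n : Ideal C := (maximalIdeal D).comap (algebraMap C D)
  have hn : n.comap (algebraMap A C) = maximalIdeal A := by
    change ((maximalIdeal D).comap (algebraMap C D)).comap (algebraMap A C) = _
    rw [Ideal.comap_comap, ← IsScalarTower.algebraMap_eq]
    exact IsLocalRing.maximalIdeal_comap _
  have hCD : Function.Injective (algebraMap C D) := Subtype.val_injective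
  have hunit : ∀ c : C, c ∉ n → IsUnit (algebraMap C D c) := by
    intro c hc
    by_contra h
    exact hc ((IsLocalRing.mem_maximalIdeal _).mpr h)
  have hloc : IsLocalization.AtPrime D n := by
    refine ⟨?_, ?_, ?_⟩
    · rintro ⟨c, hc⟩
      exact hunit c hc
    · intro z
      obtain ⟨t, ht, ht1, ht2⟩ := hW z
      refine ⟨⟨⟨t * z, ht2⟩, ⟨⟨t, ht1⟩, ?_⟩⟩, ?_⟩
      · intro h
        exact (IsLocalRing.mem_maximalIdeal _).mp h ht
      · exact mul_comm z t
    · intro a b hab
      exact ⟨1, by rw [hCD hab]⟩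
  intro p
  obtain ⟨q, hq, hqn, hqp⟩ := K125.UnibranchInt.exists_le_comap_eq (B := C) hA (by
    intro a ha
    apply hker
    rw [RingHom.mem_ker] at ha ⊢
    rw [IsScalarTower.algebraMap_apply A C D, ha, map_zero]) n hn p.asIdeal
  have hdisj : Disjoint (n.primeCompl : Set C) q := by
    rw [Set.disjoint_left]
    intro c hc hcq
    exact hc (hqn hcq)
  refine ⟨⟨q.map (algebraMap C D),
    IsLocalization.isPrime_of_isPrime_disjoint n.primeCompl D q hq hdisj⟩, ?_⟩
  apply PrimeSpectrum.ext
  change (q.map (algebraMap C D)).comap (algebraMap A D) = p.asIdeal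
  have hq' : (q.map (algebraMap C D)).comap (algebraMap C D) = q :=
    IsLocalization.under_map_of_isPrime_disjoint n.primeCompl D hq hdisj
  rw [IsScalarTower.algebraMap_eq A C D, ← Ideal.comap_comap, hq', hqp]

/-- The map on spectra of local rings commutes with the canonical maps to the schemes. -/
theorem apply_ptOf {X Y : Scheme.{u}} (f : X ⟶ Y) (x : X)
    (c : PrimeSpectrum (X.presheaf.stalk x)) :
    f (LocQuot.ptOf c) =
      LocQuot.ptOf (X := Y) (x := f x) (PrimeSpectrum.comap (f.stalkMap x).hom c) := by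
  have := Scheme.SpecMap_stalkMap_fromSpecStalk f (x := x)
  unfold LocQuot.ptOf
  exact (congrArg (fun g => g c) (congrArg (fun g : _ ⟶ _ => (g : _ → _)) this)).symm

/-- The kernel of `O_{Y,y} → κ(η)` for a maximal point `η ⤳ y` of `Y`, when `O_{Y,y}` has an
irreducible spectrum. -/
theorem ker_le_nilradical {Y : Scheme.{u}} {η y : Y} (h : η ⤳ y) (hη : ∀ y' : Y, y' ⤳ η → y' = η)
    (hy : (nilradical (Y.presheaf.stalk y)).IsPrime) :
    RingHom.ker (Cyc.specMap y η h) ≤ nilradical (Y.presheaf.stalk y) := by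
  let P : PrimeSpectrum (Y.presheaf.stalk y) := ⟨nilradical _, hy⟩
  have h1 : LocQuot.ptOf P ⤳ η := by
    have h2 : P ≤ LocQuot.primeOf h := by
      change nilradical _ ≤ (LocQuot.primeOf h).asIdeal
      exact nilradical_le_prime _
    rw [← LocQuot.ptOf_specializes_iff, LocQuot.ptOf_primeOf] at h2
    exact h2
  have h2 := hη _ h1
  have h3 : LocQuot.primeOf h = P := by
    apply LocQuot.ptOf_injective
    rw [LocQuot.ptOf_primeOf, h2]
  rw [← LocQuot.primeOf_asIdeal, h3]

theorem exists_specializes_of_isUnibranch {X Y : Scheme.{u}} (f : X ⟶ Y) [LocallyOfFiniteType f]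
    (x : X) (hx : f.QuasiFiniteAt x) (hy : CAlg2.IsUnibranch (Y.presheaf.stalk (f x)))
    (ξ : X) (hξ : ξ ⤳ x) (hη : ∀ y' : Y, y' ⤳ f ξ → y' = f ξ) (y' : Y) (hy' : y' ⤳ f x) :
    ∃ x' : X, ξ ⤳ x' ∧ x' ⤳ x ∧ f x' = y' := by
  let A := Y.presheaf.stalk (f x)
  let B := X.presheaf.stalk x
  let D := Cyc.LocQuot x ξ hξ
  let φ : A →+* B := (f.stalkMap x).hom
  let π : B →+* D := Ideal.Quotient.mk _
  let _ : Algebra A D := (π.comp φ).toAlgebra
  have hπ : IsLocalHom π := .of_surjective _ Ideal.Quotient.mk_surjective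
  have hφ : IsLocalHom φ := inferInstanceAs (IsLocalHom (f.stalkMap x).hom)
  have hloc : IsLocalHom (algebraMap A D) := RingHom.isLocalHom_comp π φ
  have hnil : (nilradical A).IsPrime := (Ideal.Quotient.isDomain_iff_prime _).mp hy.1
  have hker : RingHom.ker (algebraMap A D) ≤ nilradical A := by
    refine le_trans ?_ (ker_le_nilradical (hξ.map f.continuous) hη hnil)
    intro a ha
    have h1 : π (φ a) = 0 := ha
    have h2 : φ a ∈ RingHom.ker (Cyc.specMap x ξ hξ) := Ideal.Quotient.eq_zero_iff_mem.mp h1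
    rw [← LocQuot.primeOf_asIdeal] at h2 ⊢
    have h3 : PrimeSpectrum.comap φ (LocQuot.primeOf hξ) =
        LocQuot.primeOf (hξ.map f.continuous) := by
      apply LocQuot.ptOf_injective
      rw [LocQuot.ptOf_primeOf]
      refine (apply_ptOf f x _).symm.trans ?_
      rw [LocQuot.ptOf_primeOf]
    rw [← h3]
    exact h2
  have hW : ∀ z : D, ∃ t : D, IsUnit t ∧ IsIntegral A t ∧ IsIntegral A (t * z) := by
    intro z
    obtain ⟨z, rfl⟩ := Ideal.Quotient.mk_surjective z
    obtain ⟨t, ht, ht1, ht2⟩ :=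
      UnramA.QuasiFiniteStalk.exists_isIntegral_of_quasiFiniteAt f x hx z
    refine ⟨π t, ht.map π, ?_, ?_⟩
    · obtain ⟨p, hp, hp'⟩ := ht1
      exact ⟨p, hp, by
        change Polynomial.eval₂ (π.comp φ) (π t) p = 0
        rw [← Polynomial.hom_eval₂, hp', map_zero]⟩
    · obtain ⟨p, hp, hp'⟩ := ht2
      exact ⟨p, hp, by
        change Polynomial.eval₂ (π.comp φ) (π t * π z) p = 0
        rw [← map_mul, ← Polynomial.hom_eval₂, hp', map_zero]⟩
  obtain ⟨Q, hQ⟩ := comap_surjective hy hker hW (LocQuot.primeOf hy')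
  let P : PrimeSpectrum B := PrimeSpectrum.comap π Q
  refine ⟨LocQuot.ptOf P, ?_, LocQuot.ptOf_specializes P, ?_⟩
  · have h1 : LocQuot.primeOf hξ ≤ P := by
      change (LocQuot.primeOf hξ).asIdeal ≤ Q.asIdeal.comap π
      rw [LocQuot.primeOf_asIdeal]
      intro b hb
      have : π b = 0 := Ideal.Quotient.eq_zero_iff_mem.mpr hb
      rw [Ideal.mem_comap, this]
      exact Q.asIdeal.zero_mem
    rw [← LocQuot.ptOf_specializes_iff, LocQuot.ptOf_primeOf] at h1
    exact h1
  · rw [apply_ptOf]
    have h2 : PrimeSpectrum.comap (f.stalkMap x).hom P = LocQuot.primeOf hy' := hQ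
    rw [h2, LocQuot.ptOf_primeOf]

end K125.UnibranchQF
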