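import Groth.Agent.EGA43.K125.PolyUnibranchSch
import Groth.Agent.EGA43.K125.UnibranchQF
import Groth.Agent.Ega43.ChevalleyCrit
import Groth.Agent.Ega43.OpenAtFT

/-!
# Quasi-finite dominant morphisms over a geometrically unibranch point

`isUnivOpenAt_of_locallyQuasiFinite`: a dominant quasi-finite morphism of irreducible schemes,
locally of finite presentation, is universally open at every point over a geometrically unibranch
point.
-/

set_option autoImplicit false
universe u v

open CategoryTheory AlgebraicGeometry Limits Topology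

namespace K125.UnivOpenQF

open Groth.Agent EGA43

theorem isDominant_affineSpace_map {X Y : Scheme.{u}} (σ : Type u) (f : X ⟶ Y) [IsDominant f] :
    IsDominant (AffineSpace.map σ f) := by
  have h1 : Dense ((𝔸(σ; Y) ↘ Y) ⁻¹' (Set.range f)) :=
    Dense.preimage f.denseRange (AffineSpace.isOpenMap_over Y)
  constructor
  refine h1.mono ?_
  rintro y ⟨x, hx⟩
  obtain ⟨z, -, hz⟩ := Scheme.exists_preimage_of_isPullback (AffineSpace.isPullback_map (n := σ) f).flip
    x y hx
  exact ⟨z, hz⟩

theorem genAt_of_locallyQuasiFinite {X Y : Scheme.{u}} [IrreducibleSpace X] [IrreducibleSpace Y]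
    (f : X ⟶ Y) [LocallyOfFiniteType f] [LocallyQuasiFinite f] [IsDominant f] (x : X)
    (hy : CAlg2.IsUnibranch (Y.presheaf.stalk (f x))) : Ega43.OpenAt.GenAt f x := by
  intro U hU y' hy'
  have h1 : f (genericPoint X) = genericPoint Y := Ega43.ChevalleyCrit.map_genericPoint f
  obtain ⟨x', -, hx', hx'y⟩ := K125.UnibranchQF.exists_specializes_of_isUnibranch f x
    (f.quasiFiniteAt x) hy (genericPoint X) (genericPoint_specializes x) (by
      intro y hy
      rw [h1] at hy ⊢
      exact (hy.antisymm (genericPoint_specializes y)).eq) y' hy'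
  exact ⟨x', hx'.mem_open U.2 hU, hx'y⟩

theorem isUnivOpenAt_of_locallyQuasiFinite {X Y : Scheme.{u}} [IrreducibleSpace X]
    [IrreducibleSpace Y] (f : X ⟶ Y) [LocallyOfFinitePresentation f] [LocallyQuasiFinite f]
    [IsDominant f] (x : X) (hy : CAlg2.IsGeomUnibranch (Y.presheaf.stalk (f x))) :
    IsUnivOpenAt f x := by
  rw [Ega43.OpenAtFT.isUnivOpenAt_iff_affineSpace]
  intro n x₀ hx₀
  have hpb := AffineSpace.isPullback_map (n := ULift.{u} (Fin n)) f
  have h1 : IsDominant (AffineSpace.map (ULift.{u} (Fin n)) f) := isDominant_affineSpace_map _ f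
  have h2 : LocallyOfFiniteType (AffineSpace.map (ULift.{u} (Fin n)) f) :=
    MorphismProperty.of_isPullback hpb.flip (inferInstance : LocallyOfFiniteType f)
  have h3 : LocallyQuasiFinite (AffineSpace.map (ULift.{u} (Fin n)) f) :=
    MorphismProperty.of_isPullback hpb.flip (inferInstance : LocallyQuasiFinite f)
  apply genAt_of_locallyQuasiFinite
  refine (K125.PolyUnibranchSch.isGeomUnibranch_affineSpace _ _ ?_).1
  have h4 : (𝔸(ULift.{u} (Fin n); Y) ↘ Y) (AffineSpace.map (ULift.{u} (Fin n)) f x₀) = f x := by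
    rw [← hx₀, ← Scheme.Hom.comp_apply, ← Scheme.Hom.comp_apply, AffineSpace.map_over]
  rw [h4]
  exact hy

end K125.UnivOpenQF
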