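import Groth.Agent.EGA43.K125.ValRtd
import Groth.Agent.Ega43.ChevalleyCrit
import Groth.Agent.VarietyA.LocDim
import Groth.Agent.Ega43.FibreTop

/-!
# Dimensions of fibres through transcendence degrees; fibres over a valuation ring
-/

set_option autoImplicit false
universe u

open CategoryTheory AlgebraicGeometry

namespace K125.ValDim

open Groth.Agent.CycB.RelDim Groth.Agent

variable {X Y : Scheme.{u}} (f : X ⟶ Y)

theorem apply_fiberι (y : Y) (t : ↥(f.fiber y)) : f (f.fiberι y t) = y := by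
  have : f.fiberι y t ∈ Set.range (f.fiberι y) := ⟨t, rfl⟩
  rw [Scheme.Hom.range_fiberι] at this
  exact this

theorem fibreDimAt_le_topologicalKrullDim (x : X) (y : Y) (h : f x = y) :
    FlatMor.fibreDimAt f x ≤ topologicalKrullDim ↥(f.fiber y) := by
  subst h
  refine (Ega43.FibreTop.localDim_le _ ⊤ trivial).trans ?_
  exact topologicalKrullDim_subspace_le _ _

variable [LocallyOfFiniteType f]

theorem exists_rtd_le_topologicalKrullDim (x : X) (y : Y) (h : f x = y) :
    ∃ n : ℕ, rtd f x = n ∧ (n : WithBot ℕ∞) ≤ topologicalKrullDim ↥(f.fiber y) := by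
  obtain ⟨n, hn, hn'⟩ := VarietyA.LocDim.le_fibreDimAt f x x specializes_rfl rfl
  exact ⟨n, hn, hn'.trans (fibreDimAt_le_topologicalKrullDim f x y h)⟩

theorem topologicalKrullDim_fiber_le (y : Y) (d : WithBot ℕ∞)
    (h : ∀ x : X, f x = y → ∀ n : ℕ, rtd f x = n → (n : WithBot ℕ∞) ≤ d) :
    topologicalKrullDim ↥(f.fiber y) ≤ d := by
  rw [VarietyB.DimTop.topologicalKrullDim_eq_iSup_irreducibleComponents]
  refine iSup_le ?_
  rintro ⟨T, hT⟩
  obtain ⟨z, rfl, -⟩ := exists_fibGeneric_of_mem (f := f) hT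
  obtain ⟨n, hn, hn'⟩ := exists_dim_closure_fiber f y z
  have hy : f (f.fiberι y z) = y := by
    have : f.fiberι y z ∈ Set.range (f.fiberι y) := ⟨z, rfl⟩
    rw [Scheme.Hom.range_fiberι] at this
    exact this
  refine hn'.le.trans (h _ hy n hn)

end K125.ValDim
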