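import Groth.Agent.CycB.RelDim
import Mathlib.RingTheory.Valuation.ValuationRing
import Mathlib.Algebra.MvPolynomial.Division

/-!
# Transcendence degrees of residue fields over a valuation ring

Over a valuation ring `A`, for `z ⤳ x` in an `A`-scheme `X` one has
`trdeg κ(x)/κ(f x) ≤ trdeg κ(z)/κ(f z)`.
-/

set_option autoImplicit false
universe u v

open CategoryTheory AlgebraicGeometry

namespace K125.ValRtd

open Groth.Agent.CycB.TrdegAlg Groth.Agent.CycB.RelDim

/-- In a valuation ring, one value of a function on a nonempty finite set divides all the others. -/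
theorem exists_dvd_all {A ι : Type*} [CommRing A] [IsDomain A] [ValuationRing A] (g : ι → A)
    (t : Finset ι) (ht : t.Nonempty) : ∃ m ∈ t, ∀ m' ∈ t, g m ∣ g m' := by
  classical
  induction ht using Finset.Nonempty.cons_induction with
  | singleton a => exact ⟨a, by simp⟩
  | cons a s ha hs ih =>
    obtain ⟨m, hm, hm'⟩ := ih
    rcases ValuationRing.dvd_total (g a) (g m) with h | h
    · refine ⟨a, by simp, ?_⟩
      intro m' hm''
      rcases Finset.mem_cons.mp hm'' with rfl | h'
      · exact dvd_rfl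
      · exact h.trans (hm' m' h')
    · refine ⟨m, by simp [hm], ?_⟩
      intro m' hm''
      rcases Finset.mem_cons.mp hm'' with rfl | h'
      · exact h
      · exact hm' m' h'

/-- Over a valuation ring, a nonzero polynomial is a constant times a polynomial with a
coefficient equal to one. -/
theorem exists_content {A σ : Type*} [CommRing A] [IsDomain A] [ValuationRing A]
    (P : MvPolynomial σ A) (hP : P ≠ 0) :
    ∃ (a : A) (P₁ : MvPolynomial σ A) (m : σ →₀ ℕ), P = MvPolynomial.C a * P₁ ∧ P₁.coeff m = 1 := by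
  classical
  have hne : P.support.Nonempty := by
    rw [Finset.nonempty_iff_ne_empty]
    intro h
    exact hP (MvPolynomial.support_eq_empty.mp h)
  obtain ⟨m, hm, hdvd⟩ := exists_dvd_all (fun m => P.coeff m) P.support hne
  have h1 : MvPolynomial.C (P.coeff m) ∣ P := by
    rw [MvPolynomial.C_dvd_iff_dvd_coeff]
    intro i
    by_cases hi : i ∈ P.support
    · exact hdvd i hi
    · rw [MvPolynomial.notMem_support_iff.mp hi]
      exact dvd_zero _
  obtain ⟨P₁, hP₁⟩ := h1
  refine ⟨P.coeff m, P₁, m, hP₁, ?_⟩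
  have h2 : P.coeff m = P.coeff m * P₁.coeff m := by
    conv_lhs => rw [hP₁]
    rw [MvPolynomial.coeff_C_mul]
  have h3 : P.coeff m ≠ 0 := MvPolynomial.mem_support_iff.mp hm
  exact (mul_right_cancel₀ h3 (by rw [one_mul, mul_comm]; exact h2)).symm

theorem trd_quotientMap_le_of_valuationRing {A B : Type u} [CommRing A] [IsDomain A]
    [ValuationRing A] [CommRing B] (φ : A →+* B) (p p' : Ideal A) (Q Q' : Ideal B) [Q.IsPrime]
    [Q'.IsPrime] (hp : p = Q.comap φ) (hp' : p' = Q'.comap φ) (hle : Q' ≤ Q) :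
    trd (Ideal.quotientMap Q φ hp.le) ≤ trd (Ideal.quotientMap Q' φ hp'.le) := by
  have hpp : p.IsPrime := hp ▸ Ideal.IsPrime.comap φ
  have hpp' : p'.IsPrime := hp' ▸ Ideal.IsPrime.comap φ
  let _ := (Ideal.quotientMap Q φ hp.le).toAlgebra
  let _ := (Ideal.quotientMap Q' φ hp'.le).toAlgebra
  have hinj : Function.Injective (algebraMap (A ⧸ p) (B ⧸ Q)) :=
    quotientMap_injective_of_eq φ p Q hp
  have : FaithfulSMul (A ⧸ p) (B ⧸ Q) := (faithfulSMul_iff_algebraMap_injective _ _).mpr hinj
  obtain ⟨s, hs⟩ := exists_isTranscendenceBasis (A ⧸ p) (B ⧸ Q)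
  have hcard : Cardinal.mk s = trd (Ideal.quotientMap Q φ hp.le) := hs.cardinalMk_eq_trdeg
  let x : s → B := fun i => (Ideal.Quotient.mk_surjective (i : B ⧸ Q)).choose
  have hx : ∀ i, Ideal.Quotient.mk Q (x i) = i := fun i =>
    (Ideal.Quotient.mk_surjective (i : B ⧸ Q)).choose_spec
  -- evaluation in the two quotients
  have hev : ∀ P : MvPolynomial s A, MvPolynomial.aeval (R := A ⧸ p) (fun i : s => (i : B ⧸ Q))
      (MvPolynomial.map (Ideal.Quotient.mk p) P) =
        Ideal.Quotient.mk Q (MvPolynomial.eval₂ φ x P) := by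
    intro P
    rw [MvPolynomial.aeval_def, MvPolynomial.eval₂_map, MvPolynomial.hom_eval₂]
    congr 1
    ext i
    exact (hx i).symm
  have hev' : ∀ P : MvPolynomial s A, MvPolynomial.aeval (R := A ⧸ p')
      (fun i : s => Ideal.Quotient.mk Q' (x i)) (MvPolynomial.map (Ideal.Quotient.mk p') P) =
        Ideal.Quotient.mk Q' (MvPolynomial.eval₂ φ x P) := by
    intro P
    rw [MvPolynomial.aeval_def, MvPolynomial.eval₂_map, MvPolynomial.hom_eval₂]
    rfl
  have hind : AlgebraicIndependent (A ⧸ p') (fun i : s => Ideal.Quotient.mk Q' (x i)) := by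
    rw [algebraicIndependent_iff]
    intro P hP
    by_contra hne
    obtain ⟨P₀, rfl⟩ := MvPolynomial.map_surjective (Ideal.Quotient.mk p')
      Ideal.Quotient.mk_surjective P
    have hP₀ : P₀ ≠ 0 := by
      rintro rfl
      exact hne (by simp)
    obtain ⟨a, P₁, m, rfl, hm⟩ := exists_content P₀ hP₀
    have ha : a ∉ p' := by
      intro ha
      apply hne
      rw [map_mul, MvPolynomial.map_C, Ideal.Quotient.eq_zero_iff_mem.mpr ha, MvPolynomial.C_0,
        zero_mul]
    rw [hev', MvPolynomial.eval₂_mul, MvPolynomial.eval₂_C, Ideal.Quotient.eq_zero_iff_mem] at hP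
    have h1 : MvPolynomial.eval₂ φ x P₁ ∈ Q' := by
      refine (Ideal.IsPrime.mem_or_mem inferInstance hP).resolve_left fun h => ha ?_
      rw [hp']
      exact h
    have h2 : MvPolynomial.aeval (R := A ⧸ p) (fun i : s => (i : B ⧸ Q))
        (MvPolynomial.map (Ideal.Quotient.mk p) P₁) = 0 := by
      rw [hev, Ideal.Quotient.eq_zero_iff_mem]
      exact hle h1
    have h3 := (algebraicIndependent_iff.mp hs.1) _ h2
    have h4 := congrArg (MvPolynomial.coeff m) h3
    rw [MvPolynomial.coeff_map, hm, map_one, MvPolynomial.coeff_zero] at h4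
    exact one_ne_zero h4
  rw [← hcard]
  exact hind.cardinalMk_le_trdeg

/-- Over a valuation ring, transcendence degrees of residue fields decrease under specialization. -/
theorem rtd_le_of_specializes {A : Type u} [CommRing A] [IsDomain A] [ValuationRing A]
    {X : Scheme.{u}} (f : X ⟶ Spec (CommRingCat.of A)) {z x : X} (h : z ⤳ x) :
    rtd f x ≤ rtd f z := by
  obtain ⟨V, hV, hx, -⟩ := exists_isAffineOpen_mem_and_subset (x := x) (U := ⊤) trivial
  have hz : z ∈ V := h.mem_open V.2 hx
  have hU : IsAffineOpen (⊤ : (Spec (CommRingCat.of A)).Opens) := isAffineOpen_top _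
  let e : A ≃+* Γ(Spec (CommRingCat.of A), ⊤) :=
    (Scheme.ΓSpecIso (CommRingCat.of A)).symm.commRingCatIsoToRingEquiv
  have hdom : IsDomain Γ(Spec (CommRingCat.of A), ⊤) := e.symm.toMulEquiv.isDomain A
  have hval : ValuationRing Γ(Spec (CommRingCat.of A), ⊤) :=
    Function.Surjective.valuationRing e.toRingHom e.surjective
  have hq : ∀ (w : X) (hw : w ∈ V), (hU.primeIdealOf ⟨f w, trivial⟩).asIdeal =
      (hV.primeIdealOf ⟨w, hw⟩).asIdeal.comap (f.appLE ⊤ V le_top).hom := fun w hw =>
    congrArg PrimeSpectrum.asIdeal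
      (IsAffineOpen.comap_primeIdealOf_appLE ⊤ hU V hV le_top hw).symm
  rw [rtd_eq_trd_quotientMap f hU hV le_top x hx trivial _ rfl (hq x hx).le,
    rtd_eq_trd_quotientMap f hU hV le_top z hz trivial _ rfl (hq z hz).le]
  exact trd_quotientMap_le_of_valuationRing _ _ _ _ _ (hq x hx) (hq z hz)
    (primeIdealOf_le_of_specializes hV h hx hz)

end K125.ValRtd
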